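import Groth.Prelude.Def_W4stktopologysheavesDim
import Mathlib.Topology.Sober
import Mathlib.Topology.NoetherianSpace
import Mathlib.Topology.Spectral.Basic

/-!
# Soberification
-/

universe u

open Topology TopologicalSpace Set

namespace GrothLib.Soberification

variable {X : Type u} [TopologicalSpace X]

/-- The open set of the soberification given by an open set. -/
def phi (U : Set X) : Set (PtTop.Sob X) :=
  ({Z : IrreducibleCloseds X | ((Z : Set X) ∩ U).Nonempty} : Set (IrreducibleCloseds X))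

theorem mem_phi {U : Set X} {Z : IrreducibleCloseds X} :
    (Z : PtTop.Sob X) ∈ phi U ↔ ((Z : Set X) ∩ U).Nonempty := Iff.rfl

theorem isOpen_phi {U : Set X} (hU : IsOpen U) : IsOpen (phi U) :=
  GenerateOpen.basic _ ⟨⟨U, hU⟩, rfl⟩

theorem preimage_phi {U : Set X} (hU : IsOpen U) : PtTop.toSob X ⁻¹' phi U = U := by
  ext x
  show (closure {x} ∩ U).Nonempty ↔ x ∈ U
  refine ⟨fun ⟨y, hy, hyU⟩ => ?_, fun h => ⟨x, subset_closure rfl, h⟩⟩
  obtain ⟨z, hz, rfl⟩ := mem_closure_iff.1 hy U hU hyU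
  exact hz

theorem phi_inter {U V : Set X} (hU : IsOpen U) (hV : IsOpen V) : phi (U ∩ V) = phi U ∩ phi V := by
  ext Z
  refine ⟨fun ⟨y, hy, hyU, hyV⟩ => ⟨⟨y, hy, hyU⟩, ⟨y, hy, hyV⟩⟩, fun ⟨h₁, h₂⟩ => ?_⟩
  exact Z.isIrreducible.2 U V hU hV h₁ h₂

theorem phi_iUnion {ι : Sort*} (U : ι → Set X) : phi (⋃ i, U i) = ⋃ i, phi (U i) := by
  ext Z
  refine ⟨fun ⟨y, hy, hyU⟩ => ?_, fun h => ?_⟩
  · obtain ⟨i, hi⟩ := mem_iUnion.1 hyU
    exact mem_iUnion.2 ⟨i, y, hy, hi⟩
  · obtain ⟨i, y, hy, hi⟩ := mem_iUnion.1 h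
    exact ⟨y, hy, mem_iUnion.2 ⟨i, hi⟩⟩

theorem phi_univ : phi (univ : Set X) = univ :=
  eq_univ_of_forall fun (Z : IrreducibleCloseds X) => by
    show ((Z : Set X) ∩ univ).Nonempty
    rw [inter_univ]; exact Z.isIrreducible.nonempty

theorem phi_mono {U V : Set X} (h : U ⊆ V) : phi U ⊆ phi V :=
  fun _ ⟨y, hy, hyU⟩ => ⟨y, hy, h hyU⟩

theorem exists_eq_phi {O : Set (PtTop.Sob X)} (hO : IsOpen O) : ∃ U : Set X, IsOpen U ∧ O = phi U := by
  induction hO with
  | basic s hs =>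
    obtain ⟨U, rfl⟩ := hs
    exact ⟨U, U.2, rfl⟩
  | univ => exact ⟨univ, isOpen_univ, phi_univ.symm⟩
  | inter s t _ _ hs ht =>
    obtain ⟨U, hU, rfl⟩ := hs
    obtain ⟨V, hV, rfl⟩ := ht
    exact ⟨U ∩ V, hU.inter hV, (phi_inter hU hV).symm⟩
  | sUnion S _ ih =>
    choose U hU hUe using ih
    refine ⟨⋃ (s) (h : s ∈ S), U s h, isOpen_iUnion fun s => isOpen_iUnion fun h => hU s h, ?_⟩
    rw [phi_iUnion, sUnion_eq_biUnion]
    exact iUnion_congr fun s => by rw [phi_iUnion]; exact iUnion_congr fun h => hUe s h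

theorem continuous_toSob : Continuous (PtTop.toSob X) :=
  ⟨fun O hO => by
    obtain ⟨U, hU, rfl⟩ := exists_eq_phi hO
    rwa [preimage_phi hU]⟩

theorem bijOn_preimage :
    BijOn (fun U' : Set (PtTop.Sob X) => PtTop.toSob X ⁻¹' U') {U' | IsOpen U'} {U : Set X | IsOpen U} := by
  refine ⟨fun O hO => (show IsOpen O from hO).preimage continuous_toSob, fun O hO O' hO' h => ?_,
    fun U hU => ⟨phi U, isOpen_phi hU, preimage_phi hU⟩⟩
  obtain ⟨U, hU, rfl⟩ := exists_eq_phi hO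
  obtain ⟨V, hV, rfl⟩ := exists_eq_phi hO'
  simp only [preimage_phi hU, preimage_phi hV] at h
  rw [h]

theorem t0Space : T0Space (PtTop.Sob X) := by
  refine ⟨fun Z W h => ?_⟩
  have key : ∀ A B : PtTop.Sob X, Inseparable A B →
      ((show IrreducibleCloseds X from A) : Set X) ⊆ (show IrreducibleCloseds X from B) := fun A B hAB a ha => by
    by_contra hb
    obtain ⟨y, hyB, hy⟩ := (hAB.mem_open_iff (isOpen_phi (show IrreducibleCloseds X from B).isClosed.isOpen_compl)).1 ⟨a, ha, hb⟩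
    exact hy hyB
  exact IrreducibleCloseds.ext (subset_antisymm (key Z W h) (key W Z h.symm))

theorem quasiSober : QuasiSober (PtTop.Sob X) := by
  refine ⟨fun {S} hS hSc => ?_⟩
  obtain ⟨U, hU, hUe⟩ := exists_eq_phi hSc.isOpen_compl
  have hmem : ∀ Z : PtTop.Sob X, Z ∈ S ↔ ((show IrreducibleCloseds X from Z) : Set X) ⊆ Uᶜ := fun Z => by
    refine ⟨fun hZ y hy hyU => ?_, fun h => ?_⟩
    · exact (hUe.symm.le (show Z ∈ phi U from ⟨y, hy, hyU⟩)) hZ
    · by_contra hZ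
      obtain ⟨y, hy, hyU⟩ := hUe.le hZ
      exact h hy hyU
  have hC : IsIrreducible Uᶜ := by
    obtain ⟨Z, hZ⟩ := hS.nonempty
    refine ⟨((Z : IrreducibleCloseds X).isIrreducible.nonempty).mono ((hmem Z).1 hZ), fun A B hA hB => ?_⟩
    rintro ⟨a, haC, haA⟩ ⟨b, hbC, hbB⟩
    have h1 : (S ∩ phi A).Nonempty := ⟨PtTop.toSob X a, (hmem ⟨closure {a}, isIrreducible_singleton.closure, isClosed_closure⟩).2
      (closure_minimal (singleton_subset_iff.2 haC) hU.isClosed_compl), a, subset_closure rfl, haA⟩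
    have h2 : (S ∩ phi B).Nonempty := ⟨PtTop.toSob X b, (hmem ⟨closure {b}, isIrreducible_singleton.closure, isClosed_closure⟩).2
      (closure_minimal (singleton_subset_iff.2 hbC) hU.isClosed_compl), b, subset_closure rfl, hbB⟩
    obtain ⟨Z, hZS, hZA, hZB⟩ := hS.2 _ _ (isOpen_phi hA) (isOpen_phi hB) h1 h2
    obtain ⟨y, hy, hyA, hyB⟩ := (Z : IrreducibleCloseds X).isIrreducible.2 A B hA hB hZA hZB
    exact ⟨y, (hmem Z).1 hZS hy, hyA, hyB⟩
  let η : IrreducibleCloseds X := ⟨Uᶜ, hC, hU.isClosed_compl⟩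
  have hη : (η : PtTop.Sob X) ∈ S := (hmem η).2 subset_rfl
  refine ⟨η, subset_antisymm (closure_minimal (singleton_subset_iff.2 hη) hSc) fun Z hZ => ?_⟩
  refine mem_closure_iff.2 fun O hO hZO => ?_
  obtain ⟨V, hV, rfl⟩ := exists_eq_phi hO
  obtain ⟨y, hy, hyV⟩ := hZO
  exact ⟨η, ⟨y, (hmem Z).1 hZ hy, hyV⟩, rfl⟩

theorem exists_lift {Y : Type u} [TopologicalSpace Y] [QuasiSober Y] [T0Space Y] {f : X → Y} (hf : Continuous f) :
    ∃ g : PtTop.Sob X → Y, Continuous g ∧ g ∘ PtTop.toSob X = f := by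
  choose g hg using fun Z : IrreducibleCloseds X =>
    QuasiSober.sober (Z.isIrreducible.image f hf.continuousOn).closure isClosed_closure
  refine ⟨g, ⟨fun V hV => ?_⟩, funext fun x => ?_⟩
  · convert isOpen_phi (hV.preimage hf) using 1
    ext (Z : IrreducibleCloseds X)
    change g Z ∈ V ↔ ((Z : Set X) ∩ f ⁻¹' V).Nonempty
    rw [(hg Z).mem_open_set_iff hV]
    constructor
    · rintro ⟨y, hy, hyV⟩
      obtain ⟨_, hwV, z, hz, rfl⟩ := mem_closure_iff.1 hy V hV hyV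
      exact ⟨z, hz, hwV⟩
    · rintro ⟨z, hz, hzV⟩
      exact ⟨f z, subset_closure ⟨z, hz, rfl⟩, hzV⟩
  · refine (hg _).eq (?_ : IsGenericPoint (f x) _)
    show closure {f x} = closure (f '' closure {x})
    rw [closure_image_closure hf, image_singleton]

theorem isCompact_phi_iff {U : Set X} (hU : IsOpen U) : IsCompact (phi U) ↔ IsCompact U := by
  constructor
  · intro h
    refine isCompact_of_finite_subcover fun {ι} V hV hUV => ?_
    obtain ⟨t, ht⟩ := h.elim_finite_subcover (fun i => phi (V i)) (fun i => isOpen_phi (hV i))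
      (by rw [← phi_iUnion]; exact phi_mono hUV)
    refine ⟨t, fun x hx => ?_⟩
    obtain ⟨i, hi, hxi⟩ := mem_iUnion₂.1 (ht (show PtTop.toSob X x ∈ phi U from (preimage_phi hU).symm.le hx))
    exact mem_iUnion₂.2 ⟨i, hi, (preimage_phi (hV i)).le hxi⟩
  · intro h
    refine isCompact_of_finite_subcover fun {ι} O hO hUO => ?_
    choose V hV hVe using fun i => exists_eq_phi (hO i)
    obtain ⟨t, ht⟩ := h.elim_finite_subcover V hV (fun x hx => by
      obtain ⟨i, hi⟩ := mem_iUnion.1 (hUO (show PtTop.toSob X x ∈ phi U from (preimage_phi hU).symm.le hx))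
      exact mem_iUnion.2 ⟨i, (preimage_phi (hV i)).le (hVe i ▸ hi)⟩)
    refine ⟨t, fun Z hZ => ?_⟩
    have := phi_mono ht hZ
    simp only [phi_iUnion, ← hVe] at this
    exact this

theorem compactSpace [CompactSpace X] : CompactSpace (PtTop.Sob X) :=
  ⟨phi_univ (X := X) ▸ (isCompact_phi_iff isOpen_univ).2 isCompact_univ⟩

theorem spectralSpace [CompactSpace X] [PrespectralSpace X] [QuasiSeparatedSpace X] :
    SpectralSpace (PtTop.Sob X) := by
  haveI := t0Space (X := X)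
  haveI := quasiSober (X := X)
  haveI := compactSpace (X := X)
  haveI : PrespectralSpace (PtTop.Sob X) := by
    refine PrespectralSpace.mk (isTopologicalBasis_of_isOpen_of_nhds (fun s hs => hs.1) fun Z O hZ hO => ?_)
    obtain ⟨U, hU, rfl⟩ := exists_eq_phi hO
    obtain ⟨y, hy, hyU⟩ := hZ
    obtain ⟨W, ⟨hWo, hWc⟩, hyW, hWU⟩ := PrespectralSpace.isTopologicalBasis.exists_subset_of_mem_open hyU hU
    exact ⟨phi W, ⟨isOpen_phi hWo, (isCompact_phi_iff hWo).2 hWc⟩, ⟨y, hy, hyW⟩, phi_mono hWU⟩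
  haveI : QuasiSeparatedSpace (PtTop.Sob X) := ⟨fun A B hAo hAc hBo hBc => by
    obtain ⟨U, hU, rfl⟩ := exists_eq_phi hAo
    obtain ⟨V, hV, rfl⟩ := exists_eq_phi hBo
    rw [← phi_inter hU hV]
    exact (isCompact_phi_iff (hU.inter hV)).2
      (((isCompact_phi_iff hU).1 hAc).inter_of_isOpen ((isCompact_phi_iff hV).1 hBc) hU hV)⟩
  exact {}

theorem noetherianSpace [NoetherianSpace X] : NoetherianSpace (PtTop.Sob X) := by
  refine (noetherianSpace_iff_opens _).2 fun O => ?_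
  obtain ⟨U, hU, he⟩ := exists_eq_phi O.2
  rw [show (O : Set (PtTop.Sob X)) = phi U from he]
  exact (isCompact_phi_iff hU).2 (NoetherianSpace.isCompact U)

end GrothLib.Soberification
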