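import Mathlib.Topology.KrullDimension
import Mathlib.Topology.NoetherianSpace
import Mathlib.Topology.LocallyFinite
import Groth.Prelude.Def_Flat

/-!
# Chains of irreducible closed sets
-/

universe u v

open Topology TopologicalSpace Set Order

namespace GrothLib.NoethTop

variable {X : Type u} [TopologicalSpace X]

theorem length_le_dim_open (U : Opens X) (l : LTSeries (IrreducibleCloseds X)) {x : X}
    (hx : x ∈ (l.head : Set X)) (hxU : x ∈ U) : (l.length : WithBot ℕ∞) ≤ topologicalKrullDim (U : Set X) := by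
  let e := IrreducibleCloseds.orderIsoOfIsOpenEmbedding (Subtype.val : ↥(U : Set X) → X)
    U.2.isOpenEmbedding_subtypeVal
  have hmem : ∀ j, ((Subtype.val : ↥(U : Set X) → X) ⁻¹' (l j : Set X)).Nonempty := fun j =>
    ⟨⟨x, hxU⟩, (show l.head ≤ l j from l.monotone (Fin.zero_le j)) hx⟩
  let l' : LTSeries (IrreducibleCloseds (U : Set X)) :=
    { length := l.length
      toFun := fun j => e.symm ⟨l j, hmem j⟩
      step := fun j => e.symm.strictMono (l.step j) }
  exact l'.length_le_krullDim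

theorem isIrreducible_preimage_val {Y Z : Set X} (hZ : IsIrreducible Z) (h : Z ⊆ Y) :
    IsIrreducible ((Subtype.val : Y → X) ⁻¹' Z) := by
  obtain ⟨z, hz⟩ := hZ.nonempty
  refine ⟨⟨⟨z, h hz⟩, hz⟩, fun u v hu hv => ?_⟩
  obtain ⟨U, hU, rfl⟩ := isOpen_induced_iff.1 hu
  obtain ⟨V, hV, rfl⟩ := isOpen_induced_iff.1 hv
  rintro ⟨a, haZ, haU⟩ ⟨b, hbZ, hbV⟩
  obtain ⟨c, hcZ, hcU, hcV⟩ := hZ.2 U V hU hV ⟨a.1, haZ, haU⟩ ⟨b.1, hbZ, hbV⟩
  exact ⟨⟨c, h hcZ⟩, hcZ, hcU, hcV⟩

theorem length_le_dim_subset (Y : Set X) (l : LTSeries (IrreducibleCloseds X))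
    (h : (l.last : Set X) ⊆ Y) : (l.length : WithBot ℕ∞) ≤ topologicalKrullDim Y := by
  have hsub : ∀ j, (l j : Set X) ⊆ Y := fun j => subset_trans (show l j ≤ l.last from l.monotone (Fin.le_last j)) h
  let l' : LTSeries (IrreducibleCloseds Y) :=
    { length := l.length
      toFun := fun j => ⟨Subtype.val ⁻¹' (l j : Set X), isIrreducible_preimage_val (l j).isIrreducible (hsub j),
        (l j).isClosed.preimage continuous_subtype_val⟩
      step := fun j => by
        have hst : l j.castSucc < l j.succ := l.step j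
        refine lt_of_le_not_ge (preimage_mono hst.le) fun hle => hst.not_ge (show (l j.succ : Set X) ⊆ l j.castSucc from fun z hz => ?_)
        exact @hle ⟨z, hsub _ hz⟩ hz }
  exact l'.length_le_krullDim

theorem dim_le_iff {n : WithBot ℕ∞} :
    topologicalKrullDim X ≤ n ↔ ∀ l : LTSeries (IrreducibleCloseds X), (l.length : WithBot ℕ∞) ≤ n :=
  iSup_le_iff

theorem localDim_le (U : Opens X) {x : X} (hx : x ∈ U) :
    FlatMor.localDim X x ≤ topologicalKrullDim (U : Set X) :=
  iInf_le (fun V : {V : Opens X // x ∈ V} => topologicalKrullDim (V.1 : Set X)) ⟨U, hx⟩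

theorem localDim_le_dim (x : X) : FlatMor.localDim X x ≤ topologicalKrullDim X :=
  (localDim_le ⊤ (x := x) (mem_univ x)).trans (topologicalKrullDim_subspace_le X _)

theorem length_le_localDim (l : LTSeries (IrreducibleCloseds X)) {x : X} (hx : x ∈ (l.head : Set X)) :
    (l.length : WithBot ℕ∞) ≤ FlatMor.localDim X x :=
  le_iInf fun U => length_le_dim_open U.1 l hx U.2

theorem exists_localDim_eq (x : X) :
    ∃ U : Opens X, x ∈ U ∧ topologicalKrullDim (U : Set X) = FlatMor.localDim X x := by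
  haveI : Nonempty {V : Opens X // x ∈ V} := ⟨⟨⊤, mem_univ x⟩⟩
  obtain ⟨U, hU⟩ := ciInf_mem (fun V : {V : Opens X // x ∈ V} => topologicalKrullDim (V.1 : Set X))
  exact ⟨U.1, U.2, hU⟩

theorem exists_closed_point [NoetherianSpace X] [T0Space X] (Z : IrreducibleCloseds X) :
    ∃ x ∈ (Z : Set X), IsClosed ({x} : Set X) :=
  Z.isClosed.exists_closed_singleton Z.isIrreducible.nonempty

theorem finite_discrete_of_dim_le_zero [NoetherianSpace X] [T0Space X] (h : topologicalKrullDim X ≤ 0) :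
    Finite X ∧ DiscreteTopology X := by
  have hs : ∀ Z : IrreducibleCloseds X, ∃ x, (Z : Set X) = {x} ∧ IsClosed ({x} : Set X) := fun Z => by
    obtain ⟨x, hxZ, hx⟩ := exists_closed_point Z
    refine ⟨x, subset_antisymm ?_ (singleton_subset_iff.2 hxZ), hx⟩
    exact (Order.krullDim_nonpos_iff_forall_isMax.1 h ⟨{x}, isIrreducible_singleton, hx⟩)
      (show (⟨{x}, isIrreducible_singleton, hx⟩ : IrreducibleCloseds X) ≤ Z from singleton_subset_iff.2 hxZ)
  haveI : T1Space X := ⟨fun x => by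
    obtain ⟨y, hy, hyc⟩ := hs ⟨closure {x}, isIrreducible_singleton.closure, isClosed_closure⟩
    have hxy : x = y := mem_singleton_iff.1 (hy ▸ subset_closure (mem_singleton x))
    exact hxy ▸ hyc⟩
  have hfin : Finite X := by
    refine finite_univ_iff.1 ?_
    rw [← sUnion_irreducibleComponents]
    refine (NoetherianSpace.finite_irreducibleComponents).sUnion fun Z hZ => ?_
    obtain ⟨x, hx, -⟩ := hs ⟨Z, hZ.1, isClosed_of_mem_irreducibleComponents Z hZ⟩
    exact (show Z = {x} from hx) ▸ finite_singleton x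
  exact ⟨hfin, inferInstance⟩

theorem dim_eq_iSup_of_locallyFinite_closed {ι : Type v} (Y : ι → Set X) (hY : ∀ i, IsClosed (Y i))
    (hlf : LocallyFinite Y) (hcov : ⋃ i, Y i = univ) :
    topologicalKrullDim X = ⨆ i, topologicalKrullDim (Y i) := by
  refine le_antisymm (dim_le_iff.2 fun l => ?_) (iSup_le fun i => topologicalKrullDim_subspace_le X _)
  obtain ⟨x, hx⟩ := l.last.isIrreducible.nonempty
  obtain ⟨t, ht, hfin⟩ := hlf x
  obtain ⟨U, hUt, hU, hxU⟩ := mem_nhds_iff.1 ht
  classical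
  obtain ⟨z, hz, hsub⟩ := isIrreducible_iff_sUnion_isClosed.1 l.last.isIrreducible
    (insert Uᶜ (hfin.toFinset.image Y)) (by simp [hU.isClosed_compl, hY]) (by
      intro y _
      rw [Finset.coe_insert, sUnion_insert, Finset.coe_image]
      by_cases hyU : y ∈ U
      · obtain ⟨i, hi⟩ := mem_iUnion.1 (hcov.symm ▸ mem_univ y : y ∈ ⋃ i, Y i)
        exact Or.inr (mem_sUnion.2 ⟨Y i, mem_image_of_mem Y (hfin.mem_toFinset.2 ⟨y, hi, hUt hyU⟩), hi⟩)
      · exact Or.inl hyU)
  rcases Finset.mem_insert.1 hz with rfl | hz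
  · exact absurd hxU (hsub hx)
  · obtain ⟨i, -, rfl⟩ := Finset.mem_image.1 hz
    exact (length_le_dim_subset (Y i) l hsub).trans (le_iSup (fun i => topologicalKrullDim (Y i)) i)

theorem preimage_dim_le (U : Set X) (Y : Set X) :
    topologicalKrullDim ((Subtype.val : Y → X) ⁻¹' U) ≤ topologicalKrullDim U :=
  (IsInducing.of_comp (f := fun y : (Subtype.val : Y → X) ⁻¹' U => (⟨y.1.1, y.2⟩ : U)) (g := Subtype.val)
    (Continuous.subtype_mk (continuous_subtype_val.comp continuous_subtype_val) _) continuous_subtype_val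
    ((IsInducing.subtypeVal (t := Y)).comp
      (IsInducing.subtypeVal (t := (Subtype.val : Y → X) ⁻¹' U)))).topologicalKrullDim_le

end GrothLib.NoethTop
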