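import Mathlib.Topology.Constructible
import Mathlib.Topology.Spectral.Prespectral

/-!
# Retrocompact and constructible subsets of prespectral spaces
-/

universe u

open Topology TopologicalSpace Set

namespace GrothLib.NoethTop

variable {X : Type u} [TopologicalSpace X]

theorem isRetrocompact_sdiff {U V : Set X} (hU : IsRetrocompact U) (hV : IsOpen V) :
    IsRetrocompact (U \ V) := fun W hW hWo => by
  rw [sdiff_eq, inter_right_comm]
  exact (hU hW hWo).inter_right hV.isClosed_compl

theorem isSublattice_openRetrocompact :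
    IsSublattice {U : Set X | IsOpen U ∧ IsRetrocompact U} :=
  ⟨fun _ hs _ ht => ⟨hs.1.union ht.1, hs.2.union ht.2⟩,
    fun _ hs _ ht => ⟨hs.1.inter ht.1, hs.2.inter_isOpen ht.2 ht.1⟩⟩

theorem isRetrocompact_of_isConstructible {s : Set X} (hs : Topology.IsConstructible s) :
    IsRetrocompact s := by
  induction s, hs using BooleanSubalgebra.closure_sdiff_sup_induction with
  | isSublattice => exact isSublattice_openRetrocompact
  | bot_mem => exact ⟨isOpen_empty, IsRetrocompact.empty⟩
  | top_mem => exact ⟨isOpen_univ, IsRetrocompact.univ⟩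
  | sdiff U hU V hV => exact isRetrocompact_sdiff hU.2 hV.1
  | sup s _ t _ hs ht => exact hs.union ht

variable [PrespectralSpace X]

/-- A compact open trace on a retrocompact set is the trace of a compact open. -/
theorem exists_compact_open {T : Set X} {W : Set T} (hW : IsCompact W) (hWo : IsOpen W) :
    ∃ K : Set X, IsOpen K ∧ IsCompact K ∧ Subtype.val ⁻¹' K = W := by
  classical
  obtain ⟨O, hO, rfl⟩ := isOpen_induced_iff.1 hWo
  let ι := {K : Set X // IsOpen K ∧ IsCompact K ∧ K ⊆ O}
  obtain ⟨t, ht⟩ := hW.elim_finite_subcover (fun K : ι => (Subtype.val ⁻¹' K.1 : Set T))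
    (fun K => K.2.1.preimage continuous_subtype_val) (fun x hx => by
      obtain ⟨K, ⟨hKo, hKc⟩, hxK, hKO⟩ :=
        PrespectralSpace.isTopologicalBasis.exists_subset_of_mem_open (show x.1 ∈ O from hx) hO
      exact mem_iUnion.2 ⟨⟨K, hKo, hKc, hKO⟩, hxK⟩)
  refine ⟨⋃ K ∈ t, K.1, isOpen_biUnion fun K _ => K.2.1, t.isCompact_biUnion fun K _ => K.2.2.1, ?_⟩
  refine subset_antisymm (preimage_mono (iUnion₂_subset fun K _ => K.2.2.2)) ?_
  rw [preimage_iUnion₂]
  exact ht

theorem prespectralSpace_subtype {T : Set X} (hT : IsRetrocompact T) : PrespectralSpace T := by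
  refine PrespectralSpace.mk (isTopologicalBasis_of_isOpen_of_nhds (fun s hs => hs.1) fun x O hx hO => ?_)
  obtain ⟨O', hO', rfl⟩ := isOpen_induced_iff.1 hO
  obtain ⟨K, ⟨hKo, hKc⟩, hxK, hKO⟩ :=
    PrespectralSpace.isTopologicalBasis.exists_subset_of_mem_open (show x.1 ∈ O' from hx) hO'
  refine ⟨Subtype.val ⁻¹' K, ⟨hKo.preimage continuous_subtype_val, ?_⟩, hxK, preimage_mono hKO⟩
  rw [IsEmbedding.subtypeVal.isCompact_iff, Subtype.image_preimage_coe]
  exact hT hKc hKo

theorem isConstructible_preimage_val {T : Set X} (hT : IsRetrocompact T) {E : Set X}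
    (hE : Topology.IsConstructible E) : Topology.IsConstructible ((Subtype.val : T → X) ⁻¹' E) := by
  refine hE.preimage continuous_subtype_val fun V hV hVr W hW hWo => ?_
  obtain ⟨K, hKo, hKc, rfl⟩ := exists_compact_open hW hWo
  rw [← preimage_inter, IsEmbedding.subtypeVal.isCompact_iff, Subtype.image_preimage_coe]
  exact hT (hVr hKc hKo) (hV.inter hKo)

theorem isRetrocompact_preimage_val {T : Set X} {E : Set X} (hTE : IsRetrocompact (T ∩ E)) :
    IsRetrocompact ((Subtype.val : T → X) ⁻¹' E) := fun W hW hWo => by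
  obtain ⟨K, hKo, hKc, rfl⟩ := exists_compact_open hW hWo
  rw [← preimage_inter, IsEmbedding.subtypeVal.isCompact_iff, Subtype.image_preimage_coe,
    ← inter_assoc]
  exact hTE hKc hKo

theorem isConstructible_image_val {E : Set X} (hE : Topology.IsConstructible E) {F : Set E}
    (hF : Topology.IsConstructible F) : Topology.IsConstructible ((Subtype.val : E → X) '' F) := by
  suffices ∀ C, Topology.IsConstructible C → C ⊆ E →
      Topology.IsConstructible (((Subtype.val : E → X) '' F) ∩ C) by
    simpa [inter_eq_left.2 (Subtype.coe_image_subset E F)] using this E hE subset_rfl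
  intro C hC
  induction C, hC using BooleanSubalgebra.closure_sdiff_sup_induction with
  | isSublattice => exact isSublattice_openRetrocompact
  | bot_mem => exact ⟨isOpen_empty, IsRetrocompact.empty⟩
  | top_mem => exact ⟨isOpen_univ, IsRetrocompact.univ⟩
  | sup s _ t _ hs ht =>
    intro h
    simp only [sup_eq_union] at h ⊢
    rw [inter_union_distrib_left]
    exact (hs (subset_union_left.trans h)).union (ht (subset_union_right.trans h))
  | sdiff V hV W hW =>
    intro hsub
    haveI := prespectralSpace_subtype (isRetrocompact_of_isConstructible hE)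
    let C' : Set E := Subtype.val ⁻¹' (V \ W)
    have hC' : IsRetrocompact C' := by
      refine isRetrocompact_preimage_val ?_
      rw [inter_eq_right.2 hsub]
      exact isRetrocompact_sdiff hV.2 hW.1
    have h₁ : Topology.IsConstructible ((Subtype.val : C' → E) ⁻¹' F) := isConstructible_preimage_val hC' hF
    let j : C' → V := fun x => ⟨x.1.1, x.2.1⟩
    have hje : IsEmbedding j :=
      IsEmbedding.of_comp (f := j) (g := Subtype.val) (Continuous.subtype_mk
        (continuous_subtype_val.comp continuous_subtype_val) _) continuous_subtype_val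
        ((IsEmbedding.subtypeVal (p := fun x => x ∈ E)).comp (IsEmbedding.subtypeVal (p := fun x => x ∈ C')))
    have hjr : range j = (Subtype.val ⁻¹' W)ᶜ := by
      ext ⟨x, hxV⟩
      constructor
      · rintro ⟨y, hy⟩
        have : y.1.1 = x := congrArg Subtype.val hy
        exact fun hxW => y.2.2 (this ▸ hxW)
      · exact fun hxW => ⟨⟨⟨x, hsub ⟨hxV, hxW⟩⟩, hxV, hxW⟩, rfl⟩
    have hjc : IsClosedEmbedding j :=
      ⟨hje, hjr ▸ (hW.1.preimage continuous_subtype_val).isClosed_compl⟩
    have h₂ : Topology.IsConstructible (j '' (Subtype.val ⁻¹' F)) :=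
      h₁.image_of_isClosedEmbedding hjc (by
        rw [hjr, compl_compl]
        exact hW.2.preimage_of_isOpenEmbedding hV.1.isOpenEmbedding_subtypeVal)
    have h₃ := h₂.image_of_isOpenEmbedding hV.1.isOpenEmbedding_subtypeVal
      (by rw [Subtype.range_coe]; exact hV.2)
    convert h₃ using 1
    ext x
    constructor
    · rintro ⟨⟨e, he, rfl⟩, hx⟩
      exact ⟨⟨e.1, hx.1⟩, ⟨⟨e, hx⟩, he, rfl⟩, rfl⟩
    · rintro ⟨_, ⟨y, hy, rfl⟩, rfl⟩
      exact ⟨⟨y.1, hy, rfl⟩, y.2⟩

end GrothLib.NoethTop
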