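import Groth.Agent.Lib.Constr.Basic
import Groth.Agent.Lib.NoethTop.Retrocompact
import Mathlib.Topology.Spectral.Basic
import Mathlib.Topology.Spectral.Hom

/-!
# Spectral spaces and their constructible topology
-/

universe u v

open Topology TopologicalSpace Set

namespace GrothLib.SpecSp

variable {X : Type u} [TopologicalSpace X] [SpectralSpace X]

theorem isClopen_cons {U : Set X} (hU : IsOpen U) (hUc : IsCompact U) :
    IsClosed[constructibleTopology X] U ∧ IsOpen[constructibleTopology X] U :=
  ⟨Constr.isClosed_constructibleTopology_of_isConstructible (hUc.isConstructible hU),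
    hUc.isOpen_constructibleTopology_of_isOpen hU⟩

theorem isClosed_cons_of_isClosed {Z : Set X} (hZ : IsClosed Z) : IsClosed[constructibleTopology X] Z := by
  simpa using @IsClosed.preimage X X (constructibleTopology X) _ id
    Constr.continuous_id_constructibleTopology Z hZ

theorem isOpen_cons_of_isOpen {U : Set X} (hU : IsOpen U) : IsOpen[constructibleTopology X] U := by
  simpa using @IsOpen.preimage X X (constructibleTopology X) _ id
    Constr.continuous_id_constructibleTopology U hU

theorem isCompact_of_isClosed_cons {E : Set X} (hE : IsClosed[constructibleTopology X] E) : IsCompact E := by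
  simpa using @IsCompact.image X X (constructibleTopology X) _ E id
    (Constr.isCompact_constructibleTopology_of_isClosed hE) Constr.continuous_id_constructibleTopology

theorem isClosed_cons_singleton (x : X) : IsClosed[constructibleTopology X] {x} :=
  @isClosed_singleton X (constructibleTopology X) (@T2Space.t1Space X (constructibleTopology X)
    Constr.t2Space_constructibleTopology) x

/-- A family of constructibly closed sets with the finite intersection property has a common point. -/
theorem exists_mem_of_fip {ι : Type v} (A : ι → Set X) (hA : ∀ i, IsClosed[constructibleTopology X] (A i))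
    (h : ∀ t : Finset ι, (⋂ i ∈ t, A i).Nonempty) : ∃ x, ∀ i, x ∈ A i := by
  have hc : @IsCompact X (constructibleTopology X) univ :=
    Constr.isCompact_constructibleTopology_of_isClosed (@isClosed_univ X (constructibleTopology X))
  letI := constructibleTopology X
  obtain ⟨x, -, hx⟩ := hc.inter_iInter_nonempty A hA
    (fun t => by simpa using h t)
  exact ⟨x, fun i => mem_iInter.1 hx i⟩

theorem specializes_of_forall {x e : X} (h : ∀ U : Set X, IsOpen U → IsCompact U → x ∈ U → e ∈ U) :
    e ⤳ x := by
  rw [specializes_iff_forall_open]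
  intro V hV hxV
  obtain ⟨U, ⟨hUo, hUc⟩, hxU, hUV⟩ :=
    PrespectralSpace.isTopologicalBasis.exists_subset_of_mem_open hxV hV
  exact hUV (h U hUo hUc hxU)

theorem isOpen_isCompact_biInter {ι : Type v} (t : Finset ι) (U : ι → Set X)
    (hU : ∀ i ∈ t, IsOpen (U i) ∧ IsCompact (U i)) :
    IsOpen (⋂ i ∈ t, U i) ∧ IsCompact (⋂ i ∈ t, U i) := by
  classical
  induction t using Finset.induction_on with
  | empty => simpa using isCompact_univ
  | insert a s _ ih =>
    rw [Finset.set_biInter_insert]
    have h1 := hU a (Finset.mem_insert_self a s)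
    have h2 := ih fun i hi => hU i (Finset.mem_insert_of_mem hi)
    exact ⟨h1.1.inter h2.1, h1.2.inter_of_isOpen h2.2 h1.1 h2.1⟩

theorem exists_specializes_of_mem_closure {E : Set X} (hE : IsClosed[constructibleTopology X] E) {x : X}
    (hx : x ∈ closure E) : ∃ e ∈ E, e ⤳ x := by
  let ι := Option {U : Set X // IsOpen U ∧ IsCompact U ∧ x ∈ U}
  let A : ι → Set X := fun o => o.elim E Subtype.val
  obtain ⟨e, he⟩ := exists_mem_of_fip A
    (fun o => by cases o with | none => exact hE | some U => exact (isClopen_cons U.2.1 U.2.2.1).1)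
    (fun t => by
      classical
      let s := t.eraseNone
      have ho := isOpen_isCompact_biInter s (fun U => U.1) (fun U _ => ⟨U.2.1, U.2.2.1⟩)
      obtain ⟨y, hyU, hyE⟩ := mem_closure_iff.1 hx _ ho.1 (mem_iInter₂.2 fun U _ => U.2.2.2)
      refine ⟨y, mem_iInter₂.2 fun o ho' => ?_⟩
      cases o with
      | none => exact hyE
      | some U => exact mem_iInter₂.1 hyU U (Finset.mem_eraseNone.2 ho'))
  exact ⟨e, he none, specializes_of_forall fun U hU hUc hxU => he (some ⟨U, hU, hUc, hxU⟩)⟩

theorem isClosed_of_stableUnderSpecialization {E : Set X} (hE : IsClosed[constructibleTopology X] E)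
    (h : StableUnderSpecialization E) : IsClosed E :=
  isClosed_of_closure_subset fun x hx => by
    obtain ⟨e, he, hex⟩ := exists_specializes_of_mem_closure hE hx
    exact h hex he

theorem isOpen_of_stableUnderGeneralization {E : Set X} (hE : IsOpen[constructibleTopology X] E)
    (h : StableUnderGeneralization E) : IsOpen E :=
  isClosed_compl_iff.1 (isClosed_of_stableUnderSpecialization
    ((@isClosed_compl_iff X (constructibleTopology X) E).2 hE) h.compl)

theorem exists_or_disjoint (x y : X) : (∃ z : X, z ⤳ x ∧ z ⤳ y) ∨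
    (∃ U V : Set X, IsOpen U ∧ IsOpen V ∧ x ∈ U ∧ y ∈ V ∧ Disjoint U V) := by
  classical
  refine or_iff_not_imp_right.2 fun h => ?_
  let ι := {U : Set X // IsOpen U ∧ IsCompact U ∧ x ∈ U} ⊕ {U : Set X // IsOpen U ∧ IsCompact U ∧ y ∈ U}
  obtain ⟨z, hz⟩ := exists_mem_of_fip (Sum.elim (fun U => U.1) (fun U => U.1) : ι → Set X)
    (fun o => by cases o with | inl U => exact (isClopen_cons U.2.1 U.2.2.1).1
                              | inr U => exact (isClopen_cons U.2.1 U.2.2.1).1)
    (fun t => by
      have h₁ := isOpen_isCompact_biInter t.toLeft (fun U => U.1) (fun U _ => ⟨U.2.1, U.2.2.1⟩)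
      have h₂ := isOpen_isCompact_biInter t.toRight (fun U => U.1) (fun U _ => ⟨U.2.1, U.2.2.1⟩)
      by_contra hne
      refine h ⟨_, _, h₁.1, h₂.1, mem_iInter₂.2 fun U _ => U.2.2.2, mem_iInter₂.2 fun U _ => U.2.2.2, ?_⟩
      rw [Set.disjoint_left]
      intro z hz₁ hz₂
      refine hne ⟨z, mem_iInter₂.2 fun o ho => ?_⟩
      cases o with
      | inl U => exact mem_iInter₂.1 hz₁ U (Finset.mem_toLeft.2 ho)
      | inr U => exact mem_iInter₂.1 hz₂ U (Finset.mem_toRight.2 ho))
  exact ⟨z, specializes_of_forall fun U hU hUc hx => hz (Sum.inl ⟨U, hU, hUc, hx⟩),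
    specializes_of_forall fun U hU hUc hy => hz (Sum.inr ⟨U, hU, hUc, hy⟩)⟩

theorem exists_subset_of_iInter_subset {I : Type v} [Nonempty I] (U : I → Set X)
    (hU : ∀ i, IsOpen (U i) ∧ IsCompact (U i)) (hdir : ∀ i j, ∃ k, U k ⊆ U i ∩ U j)
    {V : Set X} (hV : IsOpen V) (h : (⋂ i, U i) ⊆ V) : ∃ i, U i ⊆ V := by
  by_contra! hne
  obtain ⟨x, hx⟩ := exists_mem_of_fip (fun i => U i ∩ Vᶜ)
    (fun i => @IsClosed.inter X _ _ (constructibleTopology X) (isClopen_cons (hU i).1 (hU i).2).1
      (isClosed_cons_of_isClosed hV.isClosed_compl))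
    (fun t => by
      classical
      obtain ⟨k, hk⟩ : ∃ k, ∀ i ∈ t, U k ⊆ U i := by
        induction t using Finset.induction_on with
        | empty => exact ⟨Classical.arbitrary I, by simp⟩
        | insert a s _ ih =>
          obtain ⟨k, hk⟩ := ih
          obtain ⟨m, hm⟩ := hdir a k
          refine ⟨m, fun i hi => ?_⟩
          rcases Finset.mem_insert.1 hi with rfl | hi
          · exact hm.trans inter_subset_left
          · exact (hm.trans inter_subset_right).trans (hk i hi)
      obtain ⟨y, hy, hyV⟩ := not_subset.1 (hne k)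
      exact ⟨y, mem_iInter₂.2 fun i hi => ⟨hk i hi hy, hyV⟩⟩)
  exact (hx (Classical.arbitrary I)).2 (h (mem_iInter.2 fun i => (hx i).1))

/-- The generalizations of a quasi-compact set form an intersection of quasi-compact opens. -/
theorem exists_sInter_eq_of_isCompact {E : Set X} (hE : IsCompact E) :
    {x | ∃ e ∈ E, x ⤳ e} = ⋂₀ {U | IsOpen U ∧ IsCompact U ∧ E ⊆ U} := by
  refine subset_antisymm (fun x ⟨e, he, hxe⟩ U hU => hxe.mem_open hU.1 (hU.2.2 he)) fun x hx => ?_
  by_contra hne
  have : ∀ e : E, ∃ U : Set X, IsOpen U ∧ IsCompact U ∧ (e : X) ∈ U ∧ x ∉ U := fun e => by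
    by_contra! hall
    exact hne ⟨e, e.2, specializes_of_forall hall⟩
  choose U hUo hUc heU hxU using this
  obtain ⟨t, ht⟩ := hE.elim_finite_subcover U hUo (fun e he => mem_iUnion.2 ⟨⟨e, he⟩, heU _⟩)
  obtain ⟨e, -, hxe⟩ := mem_iUnion₂.1 (hx (⋃ e ∈ t, U e)
    ⟨isOpen_biUnion fun e _ => hUo e, t.isCompact_biUnion fun e _ => hUc e, ht⟩)
  exact hxU e hxe

/-- A constructibly closed subspace of a spectral space is spectral. -/
theorem spectralSpace_subtype {E : Set X} (hE : IsClosed[constructibleTopology X] E) :
    SpectralSpace E := by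
  haveI : CompactSpace E := isCompact_iff_compactSpace.1 (isCompact_of_isClosed_cons hE)
  have hret : IsRetrocompact E := fun K hK hKo =>
    isCompact_of_isClosed_cons (@IsClosed.inter X _ _ (constructibleTopology X) hE (isClopen_cons hKo hK).1)
  haveI := NoethTop.prespectralSpace_subtype hret
  haveI : QuasiSeparatedSpace E := ⟨fun U V hUo hUc hVo hVc => by
    obtain ⟨K, hKo, hKc, rfl⟩ := NoethTop.exists_compact_open hUc hUo
    obtain ⟨K', hKo', hKc', rfl⟩ := NoethTop.exists_compact_open hVc hVo
    rw [← preimage_inter, IsEmbedding.subtypeVal.isCompact_iff, Subtype.image_preimage_coe]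
    exact hret (hKc.inter_of_isOpen hKc' hKo hKo') (hKo.inter hKo')⟩
  haveI : QuasiSober E := ⟨fun {Z} hZi hZc => by
    have hiZ := hZi.image Subtype.val continuous_subtype_val.continuousOn
    obtain ⟨η, hη⟩ := QuasiSober.sober hiZ.closure isClosed_closure
    let ι := Option {U : Set X // IsOpen U ∧ IsCompact U ∧ η ∈ U}
    let A : ι → Set X := fun o => o.elim (closure (Subtype.val '' Z) ∩ E) Subtype.val
    obtain ⟨e, he⟩ := exists_mem_of_fip A
      (fun o => by
        cases o with
        | none => exact @IsClosed.inter X _ _ (constructibleTopology X) (isClosed_cons_of_isClosed isClosed_closure) hE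
        | some U => exact (isClopen_cons U.2.1 U.2.2.1).1)
      (fun t => by
        classical
        have ho := isOpen_isCompact_biInter t.eraseNone (fun U => U.1) (fun U _ => ⟨U.2.1, U.2.2.1⟩)
        obtain ⟨y, hyU, z, hz, rfl⟩ := mem_closure_iff.1 hη.mem _ ho.1
          (mem_iInter₂.2 fun U _ => U.2.2.2)
        refine ⟨z, mem_iInter₂.2 fun o ho' => ?_⟩
        cases o with
        | none => exact ⟨subset_closure ⟨z, hz, rfl⟩, z.2⟩
        | some U => exact mem_iInter₂.1 hyU U (Finset.mem_eraseNone.2 ho'))
    have heη : e = η := (specializes_of_forall fun U hU hUc hη' => he (some ⟨U, hU, hUc, hη'⟩)).antisymm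
      (hη.specializes (he none).1) |>.eq
    have hmem : η ∈ E := heη ▸ (he none).2
    refine ⟨⟨η, hmem⟩, ?_⟩
    ext z
    rw [closure_subtype, image_singleton]
    constructor
    · intro hz
      rw [hη.def] at hz
      exact hZc.closure_subset (closure_subtype.2 hz)
    · intro hz
      rw [hη.def]
      exact subset_closure ⟨z, hz, rfl⟩⟩
  exact {}

variable {Y : Type v} [TopologicalSpace Y] [SpectralSpace Y]

theorem continuous_cons {f : X → Y} (hf : IsSpectralMap f) :
    @Continuous X Y (constructibleTopology X) (constructibleTopology Y) f := by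
  refine continuous_generateFrom_iff.2 fun s hs => ?_
  rcases hs with ⟨ho, hc⟩ | ⟨ho, hc⟩
  · exact (isClopen_cons (ho.preimage hf.continuous) (hc.preimage_of_isOpen hf ho)).2
  · have h := (isClopen_cons (ho.isOpen_compl.preimage hf.continuous) (hc.preimage_of_isOpen hf ho.isOpen_compl)).1
    simpa [preimage_compl] using (@isOpen_compl_iff X _ (constructibleTopology X)).2 h

theorem isClosed_cons_image {f : X → Y} (hf : IsSpectralMap f) {E : Set X}
    (hE : IsClosed[constructibleTopology X] E) : IsClosed[constructibleTopology Y] (f '' E) :=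
  @IsCompact.isClosed Y (constructibleTopology Y) Constr.t2Space_constructibleTopology _
    (@IsCompact.image X Y (constructibleTopology X) (constructibleTopology Y) E f
      (Constr.isCompact_constructibleTopology_of_isClosed hE) (continuous_cons hf))

theorem isCompact_fibre {f : X → Y} (hf : IsSpectralMap f) (y : Y) : IsCompact (f ⁻¹' {y}) :=
  isCompact_of_isClosed_cons
    (@IsClosed.preimage X Y (constructibleTopology X) (constructibleTopology Y) f (continuous_cons hf) _
      (isClosed_cons_singleton y))

theorem isSpectralMap_of_continuous_cons {f : X → Y} (hf : Continuous f)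
    (h : @Continuous X Y (constructibleTopology X) (constructibleTopology Y) f) : IsSpectralMap f :=
  ⟨hf, fun _ ho hc => isCompact_of_isClosed_cons
    (@IsClosed.preimage X Y (constructibleTopology X) (constructibleTopology Y) f h _ (isClopen_cons ho hc).1)⟩

theorem totallySeparated_cons : @TotallySeparatedSpace X (constructibleTopology X) := by
  refine @TotallySeparatedSpace.mk X (constructibleTopology X) (fun x _ y _ hxy => ?_)
  have key : ∀ U : Set X, IsOpen U → IsCompact U → x ∈ U → y ∉ U → ∃ u v : Set X,
      IsOpen[constructibleTopology X] u ∧ IsOpen[constructibleTopology X] v ∧ x ∈ u ∧ y ∈ v ∧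
        univ ⊆ u ∪ v ∧ Disjoint u v := fun U ho hc hx hy =>
    ⟨U, Uᶜ, (isClopen_cons ho hc).2, (@isOpen_compl_iff X _ (constructibleTopology X)).2 (isClopen_cons ho hc).1,
      hx, hy, by simp, disjoint_compl_right⟩
  rcases not_and_or.1 (mt (fun h : (y ⤳ x) ∧ (x ⤳ y) => (h.2.antisymm h.1).eq) hxy) with h | h
  · by_contra! hall
    refine h (specializes_of_forall fun U ho hc hx => ?_)
    by_contra hy
    obtain ⟨u, v, h1, h2, h3, h4, h5, h6⟩ := key U ho hc hx hy
    exact hall u v h1 h2 h3 h4 h5 h6
  · obtain ⟨U, ho, hc, hy, hx⟩ : ∃ U : Set X, IsOpen U ∧ IsCompact U ∧ y ∈ U ∧ x ∉ U := by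
      by_contra! hall
      exact h (specializes_of_forall hall)
    exact ⟨Uᶜ, U, (@isOpen_compl_iff X _ (constructibleTopology X)).2 (isClopen_cons ho hc).1,
      (isClopen_cons ho hc).2, hx, hy, by simp, disjoint_compl_left⟩

end GrothLib.SpecSp
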