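import Mathlib.Topology.Constructible
import Mathlib.Topology.LocallyClosed
import Mathlib.Topology.NoetherianSpace
import Mathlib.Topology.Sober

/-!
# Constructible sets of noetherian spaces
-/

universe u v

open Topology TopologicalSpace Set

namespace GrothLib.NoethTop

variable {X : Type u} [TopologicalSpace X]

/-- An irreducible set inside the closure of a finite union lies in the closure of one member. -/
theorem exists_subset_closure {Y : Set X} (hY : IsIrreducible Y) {ι : Type*} [Finite ι] (A : ι → Set X)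
    (h : Y ⊆ closure (⋃ i, A i)) : ∃ i, Y ⊆ closure (A i) := by
  classical
  haveI := Fintype.ofFinite ι
  rw [closure_iUnion_of_finite] at h
  obtain ⟨z, hz, hz'⟩ := isIrreducible_iff_sUnion_isClosed.1 hY
    (Finset.univ.image fun i => closure (A i)) (by simp) (by simpa using h)
  obtain ⟨i, -, rfl⟩ := Finset.mem_image.1 hz
  exact ⟨i, hz'⟩

/-- An open set meeting an irreducible set is dense in it. -/
theorem subset_closure_inter {Y U : Set X} (hY : IsPreirreducible Y) (hU : IsOpen U)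
    (h : (U ∩ Y).Nonempty) : Y ⊆ closure (U ∩ Y) := by
  intro y hy
  rw [mem_closure_iff]
  intro V hV hyV
  obtain ⟨z, hzY, hzV, hzU⟩ := hY V U hV hU ⟨y, hy, hyV⟩ (by obtain ⟨z, hzU, hzY⟩ := h; exact ⟨z, hzY, hzU⟩)
  exact ⟨z, hzV, hzU, hzY⟩

/-- A dense trace of a finite union of locally closed sets contains a nonempty open trace. -/
theorem exists_isOpen_inter_subset {Y : Set X} (hY : IsIrreducible Y) {ι : Type*} [Finite ι]
    (L : ι → Set X) (hL : ∀ i, IsLocallyClosed (L i)) (h : Y ⊆ closure ((⋃ i, L i) ∩ Y)) :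
    ∃ U : Set X, IsOpen U ∧ (U ∩ Y).Nonempty ∧ U ∩ Y ⊆ ⋃ i, L i := by
  rw [iUnion_inter] at h
  obtain ⟨i, hi⟩ := exists_subset_closure hY _ h
  obtain ⟨U, Z, hU, hZ, hLi⟩ := hL i
  rw [hLi] at hi
  have hYZ : Y ⊆ Z := hi.trans (closure_minimal (fun x hx => hx.1.2) hZ)
  refine ⟨U, hU, ?_, fun x hx => mem_iUnion.2 ⟨i, hLi ▸ ⟨hx.1, hYZ hx.2⟩⟩⟩
  obtain ⟨y, hy⟩ := hY.nonempty
  obtain ⟨z, hz⟩ := closure_nonempty_iff.1 ⟨y, hi hy⟩
  exact ⟨z, hz.1.1, hz.2⟩

/-- Being a finite union of locally closed sets. -/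
def IsFinUnionLC (s : Set X) : Prop :=
  ∃ S : Set (Set X), S.Finite ∧ (∀ t ∈ S, IsLocallyClosed t) ∧ s = ⋃₀ S

theorem IsFinUnionLC.of_isLocallyClosed {s : Set X} (h : IsLocallyClosed s) : IsFinUnionLC s :=
  ⟨{s}, finite_singleton s, by simpa using h, (sUnion_singleton s).symm⟩

theorem IsFinUnionLC.union {s t : Set X} (hs : IsFinUnionLC s) (ht : IsFinUnionLC t) :
    IsFinUnionLC (s ∪ t) := by
  obtain ⟨S, hS, hS', rfl⟩ := hs
  obtain ⟨T, hT, hT', rfl⟩ := ht
  exact ⟨S ∪ T, hS.union hT, fun x hx => hx.elim (hS' x) (hT' x), (sUnion_union S T).symm⟩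

theorem IsFinUnionLC.inter {s t : Set X} (hs : IsFinUnionLC s) (ht : IsFinUnionLC t) :
    IsFinUnionLC (s ∩ t) := by
  obtain ⟨S, hS, hS', rfl⟩ := hs
  obtain ⟨T, hT, hT', rfl⟩ := ht
  refine ⟨(fun p : Set X × Set X => p.1 ∩ p.2) '' (S ×ˢ T), (hS.prod hT).image _, ?_, ?_⟩
  · rintro _ ⟨⟨a, b⟩, ⟨ha, hb⟩, rfl⟩
    exact (hS' a ha).inter (hT' b hb)
  · ext x
    simp only [mem_inter_iff, mem_sUnion, mem_image, Set.mem_prod, Prod.exists]
    grind

theorem IsFinUnionLC.compl {s : Set X} (hs : IsFinUnionLC s) : IsFinUnionLC sᶜ := by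
  obtain ⟨S, hS, hS', rfl⟩ := hs
  induction S, hS using Set.Finite.induction_on with
  | empty =>
    rw [sUnion_empty, compl_empty]
    exact .of_isLocallyClosed isOpen_univ.isLocallyClosed
  | @insert a S _ _ ih =>
    rw [sUnion_insert, compl_union]
    refine IsFinUnionLC.inter ?_ (ih fun t ht => hS' t (mem_insert_of_mem a ht))
    obtain ⟨U, Z, hU, hZ, rfl⟩ := hS' a (mem_insert a S)
    rw [compl_inter]
    exact (IsFinUnionLC.of_isLocallyClosed hU.isClosed_compl.isLocallyClosed).union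
      (.of_isLocallyClosed hZ.isOpen_compl.isLocallyClosed)

theorem isFinUnionLC_of_isConstructible {s : Set X} (hs : Topology.IsConstructible s) : IsFinUnionLC s := by
  induction hs using IsConstructible.empty_union_induction with
  | open_retrocompact U hU _ => exact .of_isLocallyClosed hU.isLocallyClosed
  | union s _ t _ hs ht => exact hs.union ht
  | compl s _ hs => exact hs.compl

theorem exists_fin_of_isFinUnionLC {s : Set X} (hs : IsFinUnionLC s) :
    ∃ (n : ℕ) (Z : Fin n → Set X), (∀ i, IsLocallyClosed (Z i)) ∧ s = ⋃ i, Z i := by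
  obtain ⟨S, hS, hS', rfl⟩ := hs
  obtain ⟨n, f, -, rfl⟩ := hS.fin_param
  exact ⟨n, f, fun i => hS' _ (mem_range_self i), sUnion_range f⟩

theorem isConstructible_dense_iff {Y E : Set X} (hY : IsIrreducible Y) (hE : Topology.IsConstructible E) :
    Y ⊆ closure (E ∩ Y) ↔ ∃ U : Set X, IsOpen U ∧ (U ∩ Y).Nonempty ∧ U ∩ Y ⊆ E := by
  constructor
  · intro h
    obtain ⟨n, Z, hZ, rfl⟩ := exists_fin_of_isFinUnionLC (isFinUnionLC_of_isConstructible hE)
    exact exists_isOpen_inter_subset hY Z hZ h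
  · rintro ⟨U, hU, hne, hsub⟩
    exact (subset_closure_inter hY.2 hU hne).trans (closure_mono fun x hx => ⟨hsub hx, hx.2⟩)

theorem mem_of_isGenericPoint {Y E : Set X} {η : X} (hη : IsGenericPoint η Y) {U : Set X} (hU : IsOpen U)
    (h : (U ∩ Y).Nonempty) (hsub : U ∩ Y ⊆ E) : η ∈ E :=
  hsub ⟨(hη.mem_open_set_iff hU).2 (by rwa [inter_comm] at h), hη.mem⟩

variable [NoetherianSpace X]

theorem isConstructible_of_isOpen {U : Set X} (hU : IsOpen U) : Topology.IsConstructible U :=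
  IsRetrocompact.isConstructible hU fun V _ _ => NoetherianSpace.isCompact (U ∩ V)

theorem isConstructible_of_isLocallyClosed {s : Set X} (hs : IsLocallyClosed s) :
    Topology.IsConstructible s := by
  obtain ⟨U, Z, hU, hZ, rfl⟩ := hs
  exact (isConstructible_of_isOpen hU).inter
    (Topology.isConstructible_compl.1 (isConstructible_of_isOpen hZ.isOpen_compl))

/-- Noetherian induction on closed sets, with the irreducible case isolated. -/
@[elab_as_elim]
theorem closed_induction {P : Set X → Prop} (hempty : P ∅)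
    (hunion : ∀ Z₁ Z₂, IsClosed Z₁ → IsClosed Z₂ → P Z₁ → P Z₂ → P (Z₁ ∪ Z₂))
    (hirr : ∀ Z, IsClosed Z → IsIrreducible Z → (∀ Z', IsClosed Z' → Z' ⊂ Z → P Z') → P Z)
    {Z : Set X} (hZ : IsClosed Z) : P Z := by
  suffices ∀ C : Closeds X, P C from this ⟨Z, hZ⟩
  intro C
  induction C using WellFoundedLT.induction with
  | _ C ih =>
    have ih' : ∀ Z', IsClosed Z' → Z' ⊂ (C : Set X) → P Z' := fun Z' h' hlt => ih ⟨Z', h'⟩ hlt
    rcases (C : Set X).eq_empty_or_nonempty with h | h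
    · rwa [h]
    by_cases hp : IsPreirreducible (C : Set X)
    · exact hirr _ C.isClosed ⟨h, hp⟩ ih'
    rw [isPreirreducible_iff_isClosed_union_isClosed] at hp
    push Not at hp
    obtain ⟨Z₁, Z₂, h₁, h₂, hsub, hn₁, hn₂⟩ := hp
    have e : (C : Set X) = ((C : Set X) ∩ Z₁) ∪ ((C : Set X) ∩ Z₂) := by
      rw [← inter_union_distrib_left, inter_eq_left.2 hsub]
    rw [e]
    refine hunion _ _ (C.isClosed.inter h₁) (C.isClosed.inter h₂)
      (ih' _ (C.isClosed.inter h₁) ?_) (ih' _ (C.isClosed.inter h₂) ?_)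
    · exact ⟨inter_subset_left, fun h => hn₁ fun x hx => (h hx).2⟩
    · exact ⟨inter_subset_left, fun h => hn₂ fun x hx => (h hx).2⟩

theorem sdiff_ssubset {Z U : Set X} (hU : (U ∩ Z).Nonempty) : Z \ U ⊂ Z :=
  ⟨diff_subset, fun h => by obtain ⟨x, hxU, hxZ⟩ := hU; exact (h hxZ).2 hxU⟩

/-- The criterion of constructibility on irreducible closed sets. -/
theorem isConstructible_of_forall {E : Set X}
    (h : ∀ Y : Set X, IsClosed Y → IsIrreducible Y → Y ⊆ closure (E ∩ Y) →
      ∃ U : Set X, IsOpen U ∧ (U ∩ Y).Nonempty ∧ U ∩ Y ⊆ E) : Topology.IsConstructible E := by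
  suffices ∀ Z : Set X, IsClosed Z → Topology.IsConstructible (E ∩ Z) by
    simpa using this univ isClosed_univ
  intro Z hZ
  refine closed_induction ?_ (fun Z₁ Z₂ _ _ h₁ h₂ => ?_) (fun Z hZ hi ih => ?_) hZ
  · skip
    rw [inter_empty]
    exact IsConstructible.empty
  · skip
    rw [inter_union_distrib_left]
    exact h₁.union h₂
  · skip
    by_cases hd : Z ⊆ closure (E ∩ Z)
    · obtain ⟨U, hU, hne, hsub⟩ := h Z hZ hi hd
      have e : E ∩ Z = (U ∩ Z) ∪ (E ∩ (Z \ U)) := by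
        ext x; have := @hsub x; simp only [mem_inter_iff, mem_union, mem_diff] at *; tauto
      rw [e]
      exact (isConstructible_of_isLocallyClosed ⟨U, Z, hU, hZ, rfl⟩).union
        (ih _ (hZ.sdiff hU) (sdiff_ssubset hne))
    · have e : E ∩ Z = E ∩ closure (E ∩ Z) :=
        subset_antisymm (subset_inter inter_subset_left subset_closure)
          (inter_subset_inter_right _ (closure_minimal inter_subset_right hZ))
      rw [e]
      exact ih _ isClosed_closure ⟨closure_minimal inter_subset_right hZ, hd⟩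

/-- The criterion for being a neighbourhood. -/
theorem mem_nhds_of_forall {E : Set X} {x : X}
    (h : ∀ Y : Set X, IsClosed Y → IsIrreducible Y → x ∈ Y →
      ∃ U : Set X, IsOpen U ∧ (U ∩ Y).Nonempty ∧ U ∩ Y ⊆ E) : E ∈ 𝓝 x := by
  suffices ∀ Z : Set X, IsClosed Z → E ∪ Zᶜ ∈ 𝓝 x by simpa using this univ isClosed_univ
  intro Z hZ
  refine closed_induction ?_ (fun Z₁ Z₂ _ _ h₁ h₂ => ?_) (fun Z hZ hi ih => ?_) hZ
  · simp
  · skip
    rw [compl_union, union_inter_distrib_left]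
    exact Filter.inter_mem h₁ h₂
  · skip
    by_cases hx : x ∈ Z
    · obtain ⟨U, hU, hne, hsub⟩ := h Z hZ hi hx
      refine Filter.mem_of_superset (ih _ (hZ.sdiff hU) (sdiff_ssubset hne)) ?_
      intro y hy
      have := @hsub y
      simp only [mem_inter_iff, mem_union, mem_compl_iff, mem_diff] at *
      tauto
    · exact Filter.mem_of_superset (hZ.isOpen_compl.mem_nhds hx) subset_union_right

theorem isOpen_of_stableUnderGeneralization [QuasiSober X] {E : Set X} (hE : Topology.IsConstructible E)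
    (hs : StableUnderGeneralization E) : IsOpen E :=
  isOpen_iff_mem_nhds.2 fun x hx => mem_nhds_of_forall fun Y hY hi hxY =>
    (isConstructible_dense_iff hi hE).1 <| by
      obtain ⟨η, hη⟩ := QuasiSober.sober hi hY
      have : η ∈ E := hs (hη.specializes hxY) hx
      intro y hy
      exact closure_mono (singleton_subset_iff.2 (show η ∈ E ∩ Y from ⟨this, hη.mem⟩)) (hη.def ▸ hy)

/-- A directed family with dense traces covers. -/
theorem exists_eq_univ {ι : Type v} [Preorder ι] [IsDirected ι (· ≤ ·)] [Nonempty ι]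
    (E : ι → Set X) (hmono : Monotone E) (hE : ∀ a, Topology.IsConstructible (E a))
    (hirr : ∀ Y : Set X, IsClosed Y → IsIrreducible Y → ∃ a, Y ⊆ closure (E a ∩ Y)) :
    ∃ a, E a = univ := by
  suffices ∀ Z : Set X, IsClosed Z → ∃ a, Z ⊆ E a by
    obtain ⟨a, ha⟩ := this univ isClosed_univ
    exact ⟨a, univ_subset_iff.1 ha⟩
  intro Z hZ
  refine closed_induction ?_ (fun Z₁ Z₂ _ _ h₁ h₂ => ?_) (fun Z hZ hi ih => ?_) hZ
  · exact ⟨Classical.arbitrary ι, empty_subset _⟩
  · skip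
    obtain ⟨a, ha⟩ := h₁
    obtain ⟨b, hb⟩ := h₂
    obtain ⟨c, hac, hbc⟩ := directed_of (· ≤ ·) a b
    exact ⟨c, union_subset (ha.trans (hmono hac)) (hb.trans (hmono hbc))⟩
  · skip
    obtain ⟨a, ha⟩ := hirr Z hZ hi
    obtain ⟨U, hU, hne, hsub⟩ := (isConstructible_dense_iff hi (hE a)).1 ha
    obtain ⟨b, hb⟩ := ih _ (hZ.sdiff hU) (sdiff_ssubset hne)
    obtain ⟨c, hac, hbc⟩ := directed_of (· ≤ ·) a b
    refine ⟨c, fun y hy => ?_⟩
    by_cases hyU : y ∈ U
    · exact hmono hac (hsub ⟨hyU, hy⟩)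
    · exact hmono hbc (hb ⟨hy, hyU⟩)

/-- The criterion for constructible functions. -/
theorem constructible_function_of_forall {T : Type v} {h : X → T}
    (H : ∀ Y : Set X, IsClosed Y → IsIrreducible Y →
      ∃ U : Set X, IsOpen U ∧ (U ∩ Y).Nonempty ∧ ∀ a ∈ U ∩ Y, ∀ b ∈ U ∩ Y, h a = h b) :
    (∀ t, Topology.IsConstructible (h ⁻¹' {t})) ∧ (range h).Finite := by
  refine ⟨fun t => isConstructible_of_forall fun Y hY hi hd => ?_, ?_⟩
  · obtain ⟨U, hU, hne, hc⟩ := H Y hY hi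
    obtain ⟨z, hzU, hzY⟩ := hne
    obtain ⟨w, hwU, hwt, hwY⟩ := mem_closure_iff.1 (hd hzY) U hU hzU
    exact ⟨U, hU, ⟨z, hzU, hzY⟩, fun a ha => (hc a ha w ⟨hwU, hwY⟩).trans hwt⟩
  · suffices ∀ Z : Set X, IsClosed Z → (h '' Z).Finite by simpa using this univ isClosed_univ
    intro Z hZ
    refine closed_induction ?_ (fun Z₁ Z₂ _ _ h₁ h₂ => ?_) (fun Z hZ hi ih => ?_) hZ
    · simp
    · skip
      rw [image_union]
      exact h₁.union h₂
    · skip
      obtain ⟨U, hU, hne, hc⟩ := H Z hZ hi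
      obtain ⟨z, hz⟩ := hne
      refine ((ih _ (hZ.sdiff hU) (sdiff_ssubset ⟨z, hz⟩)).insert (h z)).subset ?_
      rintro _ ⟨y, hy, rfl⟩
      by_cases hyU : y ∈ U
      · exact Or.inl (hc y ⟨hyU, hy⟩ z hz)
      · exact Or.inr ⟨y, ⟨hy, hyU⟩, rfl⟩

end GrothLib.NoethTop
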