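import Mathlib.Topology.Spectral.Prespectral
import Mathlib.Topology.QuasiSeparated
import Mathlib.Topology.Connected.Clopen

/-!
# Connected components as intersections of clopen sets
-/

universe u

open Topology TopologicalSpace Set

namespace GrothLib.Components

variable {X : Type u} [TopologicalSpace X]

theorem exists_compact_open {A O : Set X} [PrespectralSpace X] (hA : IsCompact A) (hO : IsOpen O) (h : A ⊆ O) :
    ∃ U : Set X, IsOpen U ∧ IsCompact U ∧ A ⊆ U ∧ U ⊆ O := by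
  obtain ⟨t, ht⟩ := hA.elim_finite_subcover
    (fun K : {K : Set X // IsOpen K ∧ IsCompact K ∧ K ⊆ O} => K.1) (fun K => K.2.1) (fun x hx => by
      obtain ⟨K, ⟨hKo, hKc⟩, hxK, hKO⟩ :=
        PrespectralSpace.isTopologicalBasis.exists_subset_of_mem_open (h hx) hO
      exact mem_iUnion.2 ⟨⟨K, hKo, hKc, hKO⟩, hxK⟩)
  exact ⟨⋃ K ∈ t, K.1, isOpen_biUnion fun K _ => K.2.1, t.isCompact_biUnion fun K _ => K.2.2.1, ht,
    iUnion₂_subset fun K _ => K.2.2.2⟩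

/-- A compact set missing an intersection of clopens misses one clopen. -/
theorem exists_clopen_disjoint {K : Set X} (hK : IsCompact K) {x : X}
    (h : ∀ y ∈ K, ∃ Z : Set X, IsClopen Z ∧ x ∈ Z ∧ y ∉ Z) :
    ∃ Z : Set X, IsClopen Z ∧ x ∈ Z ∧ Disjoint Z K := by
  choose Z hZ hxZ hyZ using h
  obtain ⟨t, ht⟩ := hK.elim_finite_subcover (fun y : K => (Z y y.2)ᶜ)
    (fun y => (hZ _ _).compl.isOpen) (fun y hy => mem_iUnion.2 ⟨⟨y, hy⟩, hyZ y hy⟩)
  refine ⟨⋂ y ∈ t, Z y.1 y.2, isClopen_biInter_finset fun y _ => hZ _ _,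
    mem_iInter₂.2 fun y _ => hxZ _ _, ?_⟩
  rw [Set.disjoint_left]
  intro z hz hzK
  obtain ⟨y, hy, hzy⟩ := mem_iUnion₂.1 (ht hzK)
  exact hzy (mem_iInter₂.1 hz y hy)

theorem connectedComponent_eq [CompactSpace X] [PrespectralSpace X] [QuasiSeparatedSpace X] (x : X) :
    connectedComponent x = ⋂₀ {Z : Set X | IsClopen Z ∧ x ∈ Z} := by
  refine subset_antisymm (subset_sInter fun Z hZ => hZ.1.connectedComponent_subset hZ.2) ?_
  set C := ⋂₀ {Z : Set X | IsClopen Z ∧ x ∈ Z} with hCdef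
  have hC : IsClosed C := isClosed_sInter fun Z hZ => hZ.1.isClosed
  refine (?_ : IsPreconnected C).subset_connectedComponent (mem_sInter.2 fun Z hZ => hZ.2)
  rw [isPreconnected_iff_subset_of_disjoint_closed]
  intro A B hA hB hsub hdis
  wlog hxA : x ∈ A generalizing A B
  · have hxC : x ∈ C := mem_sInter.2 fun Z hZ => hZ.2
    exact (this B A hB hA (by rwa [union_comm]) (by rwa [inter_comm B]) ((hsub hxC).resolve_left hxA)).symm
  left
  have hd : ∀ z ∈ C, z ∈ A → z ∉ B := fun z hz h1 h2 =>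
    (Set.eq_empty_iff_forall_notMem.1 hdis) z ⟨hz, h1, h2⟩
  obtain ⟨U, hUo, hUc, hAU, hUB⟩ := exists_compact_open (hC.inter hA).isCompact (hC.inter hB).isOpen_compl
    (fun z ⟨hz, hzA⟩ ⟨_, hzB⟩ => hd z hz hzA hzB)
  obtain ⟨V, hVo, hVc, hBV, hVA⟩ := exists_compact_open (hC.inter hB).isCompact (hC.inter hA).isOpen_compl
    (fun z ⟨hz, hzB⟩ ⟨_, hzA⟩ => hd z hz hzA hzB)
  have hK : IsCompact ((U ∪ V)ᶜ ∪ (U ∩ V)) :=
    ((hUo.union hVo).isClosed_compl.isCompact).union (hUc.inter_of_isOpen hVc hUo hVo)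
  obtain ⟨Z, hZ, hxZ, hZK⟩ := exists_clopen_disjoint hK (x := x) fun y hy => by
    by_contra! hall
    have hyC : y ∈ C := mem_sInter.2 fun Z hZ => hall Z hZ.1 hZ.2
    rcases hy with hy | ⟨hyU, hyV⟩
    · rcases hsub hyC with h | h
      · exact hy (Or.inl (hAU ⟨hyC, h⟩))
      · exact hy (Or.inr (hBV ⟨hyC, h⟩))
    · rcases hsub hyC with h | h
      · exact hVA hyV ⟨hyC, h⟩
      · exact hUB hyU ⟨hyC, h⟩
  have hcov : ∀ z ∈ Z, z ∈ U ∪ V := fun z hz => by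
    by_contra h
    exact Set.disjoint_left.1 hZK hz (Or.inl h)
  have hexcl : ∀ z ∈ Z, z ∈ U → z ∉ V := fun z hz h1 h2 => Set.disjoint_left.1 hZK hz (Or.inr ⟨h1, h2⟩)
  have e : Z ∩ U = Z \ V := by
    ext z
    exact ⟨fun ⟨hz, hu⟩ => ⟨hz, hexcl z hz hu⟩, fun ⟨hz, hv⟩ => ⟨hz, (hcov z hz).resolve_right hv⟩⟩
  have hZU : IsClopen (Z ∩ U) := ⟨e ▸ hZ.isClosed.sdiff hVo, hZ.isOpen.inter hUo⟩
  have hxC : x ∈ C := mem_sInter.2 fun Z hZ => hZ.2
  intro z hz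
  have hzU : z ∈ U := (mem_sInter.1 hz _ ⟨hZU, hxZ, hAU ⟨hxC, hxA⟩⟩).2
  exact (hsub hz).resolve_right fun h => hUB hzU ⟨hz, h⟩

end GrothLib.Components
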