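import Groth.Agent.Lib.NoethTop.SpectralLimit
import Mathlib.CategoryTheory.Category.Preorder

/-!
# A spectral space is a limit of finite sober spaces
-/

universe u

open Topology TopologicalSpace Set CategoryTheory CategoryTheory.Limits Opposite

namespace GrothLib.SpecSp

variable (X : Type u) [TopologicalSpace X] [SpectralSpace X]

/-- Quasi-compact opens. -/
abbrev QCO : Type u := {U : Set X // IsOpen U ∧ IsCompact U}

variable {X}

/-- Membership pattern of a point in finitely many quasi-compact opens. -/
def pattern (t : Finset (QCO X)) (x : X) : t → Prop := fun U => x ∈ U.1.1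

theorem continuous_pattern (t : Finset (QCO X)) : Continuous (pattern t) :=
  continuous_pi fun U => continuous_Prop.2 U.1.2.1

theorem mapsTo_restrict {s t : Finset (QCO X)} (h : t ⊆ s) :
    MapsTo (fun (g : s → Prop) (U : t) => g ⟨U.1, h U.2⟩) (range (pattern s)) (range (pattern t)) := by
  rintro _ ⟨x, rfl⟩
  exact ⟨x, rfl⟩

variable (X)

/-- The system of finite quotients. -/
noncomputable def approx : (Finset (QCO X))ᵒᵖ ⥤ TopCat.{u} where
  obj t := TopCat.of (range (pattern t.unop))
  map {s t} h := TopCat.ofHom
    ⟨fun g => ⟨fun U => g.1 ⟨U.1, leOfHom h.unop U.2⟩, mapsTo_restrict (leOfHom h.unop) g.2⟩,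
      Continuous.subtype_mk (continuous_pi fun U =>
        (continuous_apply (⟨U.1, leOfHom h.unop U.2⟩ : s.unop)).comp continuous_subtype_val) _⟩
  map_id _ := rfl
  map_comp _ _ := rfl

theorem finite_t0 (t : (Finset (QCO X))ᵒᵖ) :
    Finite ((approx X).obj t) ∧ T0Space ((approx X).obj t) ∧ QuasiSober ((approx X).obj t) := by
  haveI : T0Space Prop := ⟨fun a b h => by
    have := h.mem_open_iff isOpen_singleton_true
    simpa using this⟩
  haveI : Finite ((approx X).obj t) := Finite.of_injective
    (fun g : range (pattern t.unop) => g.1) Subtype.val_injective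
  haveI : T0Space ((approx X).obj t) := inferInstanceAs (T0Space (range (pattern t.unop)))
  haveI := spectralSpace_of_finite ((approx X).obj t)
  exact ⟨inferInstance, inferInstance, inferInstance⟩

/-- The canonical map to the limit. -/
noncomputable def toLim : X → limSet (approx X) := fun x =>
  ⟨fun t => ⟨pattern t.unop x, x, rfl⟩, fun _ => rfl⟩

theorem bijective_toLim : Function.Bijective (toLim X) := by
  classical
  refine ⟨fun x y h => ?_, fun u => ?_⟩
  · have key : ∀ U : QCO X, x ∈ U.1 ↔ y ∈ U.1 := fun U =>
      (congrFun (congrArg Subtype.val (congrFun (congrArg Subtype.val h) (op {U})))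
        ⟨U, Finset.mem_singleton_self U⟩).to_iff
    exact ((specializes_of_forall fun U ho hc hy => (key ⟨U, ho, hc⟩).2 hy).antisymm
      (specializes_of_forall fun U ho hc hx => (key ⟨U, ho, hc⟩).1 hx)).eq
  · let A : Finset (QCO X) → Set X := fun t => {x | pattern t x = (u.1 (op t)).1}
    obtain ⟨x, hx⟩ := exists_mem_of_fip A (fun t => by
        rw [show A t = ⋂ U : t, {x | (x ∈ U.1.1) ↔ (u.1 (op t)).1 U} from by
          ext x; simp [A, pattern, funext_iff]]
        refine @isClosed_iInter X _ (constructibleTopology X) _ fun U => ?_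
        by_cases h : (u.1 (op t)).1 U
        · simpa [h] using (isClopen_cons U.1.2.1 U.1.2.2).1
        · have := (@isClosed_compl_iff X (constructibleTopology X) U.1.1).2
            (isClopen_cons U.1.2.1 U.1.2.2).2
          simpa [h, compl_def] using this)
      (fun T => by
        let s : Finset (QCO X) := T.biUnion id
        obtain ⟨x, hx⟩ := (u.1 (op s)).2
        refine ⟨x, mem_iInter₂.2 fun t ht => ?_⟩
        have hts : t ⊆ s := Finset.subset_biUnion_of_mem id ht
        have h := u.2 (i := op s) (j := op t) (homOfLE hts).op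
        funext U
        exact (congrFun hx ⟨U.1, hts U.2⟩).trans (congrFun (congrArg Subtype.val h) U))
    exact ⟨x, Subtype.ext (funext fun t => Subtype.ext (hx t.unop))⟩

theorem continuous_toLim : Continuous (toLim X) :=
  Continuous.subtype_mk (continuous_pi fun t => Continuous.subtype_mk (continuous_pattern t.unop) _) _

theorem isOpenMap_toLim : IsOpenMap (toLim X) := by
  intro V hV
  refine isOpen_iff_forall_mem_open.2 ?_
  rintro _ ⟨x, hx, rfl⟩
  obtain ⟨W, hW, hxW, hWV⟩ := PrespectralSpace.isTopologicalBasis.exists_subset_of_mem_open hx hV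
  let Wq : QCO X := ⟨W, hW⟩
  refine ⟨(fun u : limSet (approx X) => (u.1 (op {Wq})).1 ⟨Wq, Finset.mem_singleton_self Wq⟩) ⁻¹' {True},
    ?_, ?_, ?_⟩
  · intro u hu
    obtain ⟨y, rfl⟩ := (bijective_toLim X).2 u
    exact ⟨y, hWV (show y ∈ W from (eq_iff_iff.1 hu).2 trivial), rfl⟩
  · exact ((continuous_apply (⟨Wq, Finset.mem_singleton_self Wq⟩ : ({Wq} : Finset (QCO X)))).comp
      (continuous_subtype_val.comp ((continuous_apply (op ({Wq} : Finset (QCO X)))).comp
        continuous_subtype_val))).isOpen_preimage _ isOpen_singleton_true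
  · exact eq_true hxW

/-- The homeomorphism with the limit. -/
noncomputable def approxHomeo : X ≃ₜ limSet (approx X) :=
  (Equiv.ofBijective _ (bijective_toLim X)).toHomeomorphOfContinuousOpen (continuous_toLim X) (isOpenMap_toLim X)

end GrothLib.SpecSp
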