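import Groth.Agent.Lib.NoethTop.SpectralProd
import Mathlib.Topology.Category.TopCat.Limits.Basic
import Mathlib.CategoryTheory.Filtered.Basic

/-!
# Limits of spectral spaces along spectral maps
-/

universe u v w

open Topology TopologicalSpace Set CategoryTheory CategoryTheory.Limits

namespace GrothLib.SpecSp

section Maps

variable {Z : Type u} [TopologicalSpace Z] [SpectralSpace Z] {ι : Type v} {X : ι → Type w}
  [∀ i, TopologicalSpace (X i)] [∀ i, SpectralSpace (X i)]

theorem isSpectralMap_pi {f : Z → ∀ i, X i} (hf : ∀ i, IsSpectralMap (fun z => f z i)) :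
    IsSpectralMap f := by
  classical
  refine ⟨continuous_pi fun i => (hf i).continuous, fun U hUo hUc => ?_⟩
  obtain ⟨S, hS, rfl⟩ := (isTopologicalBasis_pi fun i =>
    PrespectralSpace.isTopologicalBasis (X := X i)).open_eq_sUnion hUo
  obtain ⟨t, htS, htf, ht⟩ := hUc.elim_finite_subcover_image (b := S) (c := id)
    (fun s hs => (isTopologicalBasis_pi fun i =>
      PrespectralSpace.isTopologicalBasis (X := X i)).isOpen (hS hs))
    (by rw [sUnion_eq_biUnion]; exact subset_rfl)
  have e : ⋃₀ S = ⋃ s ∈ t, s :=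
    subset_antisymm ht (iUnion₂_subset fun s hs => subset_sUnion_of_mem (htS hs))
  rw [e, preimage_iUnion₂]
  refine htf.isCompact_biUnion fun s hs => ?_
  obtain ⟨V, F, hV, rfl⟩ := hS (htS hs)
  have e' : f ⁻¹' ((F : Set ι).pi V) = ⋂ i ∈ F, (fun z => f z i) ⁻¹' V i := by
    ext z; simp [Set.mem_pi]
  rw [e']
  exact (isOpen_isCompact_biInter F _ fun i hi => ⟨(hV i hi).1.preimage (hf i).continuous,
    (hV i hi).2.preimage_of_isOpen (hf i) (hV i hi).1⟩).2

theorem isSpectralMap_val {E : Set Z} (hE : IsClosed[constructibleTopology Z] E) :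
    IsSpectralMap (Subtype.val : E → Z) := by
  refine ⟨continuous_subtype_val, fun U hUo hUc => ?_⟩
  rw [IsEmbedding.subtypeVal.isCompact_iff, Subtype.image_preimage_coe]
  exact isCompact_of_isClosed_cons
    (@IsClosed.inter Z _ _ (constructibleTopology Z) hE (isClopen_cons hUo hUc).1)

end Maps

section Limit

variable {J : Type u} [SmallCategory J] (F : J ⥤ TopCat.{u}) [∀ j, SpectralSpace (F.obj j)]
  (hFm : ∀ {i j : J} (a : i ⟶ j), IsSpectralMap (F.map a : F.obj i → F.obj j))

/-- The set of compatible families. -/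
def limSet : Set (∀ j, F.obj j) := {u | ∀ {i j : J} (f : i ⟶ j), F.map f (u i) = u j}

include hFm in
theorem isClosed_cons_equalizer {i j : J} (f : i ⟶ j) :
    IsClosed[constructibleTopology (∀ j, F.obj j)] {u | F.map f (u i) = u j} := by
  haveI := spectralSpace_pi (X := fun j => F.obj j)
  have h1 := continuous_cons (IsSpectralMap.comp (hFm f) (isSpectralMap_eval (X := fun j => F.obj j) i))
  have h2 := continuous_cons (isSpectralMap_eval (X := fun j => F.obj j) j)
  exact @isClosed_eq (F.obj j) (∀ j, F.obj j) (constructibleTopology (F.obj j))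
    (constructibleTopology (∀ j, F.obj j)) Constr.t2Space_constructibleTopology _ _ h1 h2

include hFm in
theorem isClosed_cons_limSet : IsClosed[constructibleTopology (∀ j, F.obj j)] (limSet F) := by
  have e : limSet F = ⋂ (i : J) (j : J) (f : i ⟶ j), {u | F.map f (u i) = u j} := by
    ext u; simp [limSet]
  rw [e]
  exact @isClosed_iInter _ _ (constructibleTopology _) _ fun i => @isClosed_iInter _ _ (constructibleTopology _) _
    fun j => @isClosed_iInter _ _ (constructibleTopology _) _ fun f => isClosed_cons_equalizer F hFm f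

include hFm in
theorem spectralSpace_limSet : SpectralSpace (limSet F) := by
  haveI := spectralSpace_pi (X := fun j => F.obj j)
  exact spectralSpace_subtype (isClosed_cons_limSet F hFm)

include hFm in
theorem isSpectralMap_proj (j : J) : IsSpectralMap (fun x : limSet F => x.1 j) := by
  haveI := spectralSpace_pi (X := fun j => F.obj j)
  exact IsSpectralMap.comp (isSpectralMap_eval (X := fun j => F.obj j) j)
    (isSpectralMap_val (isClosed_cons_limSet F hFm))

/-- The vertex of a limit cone is the space of compatible families. -/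
noncomputable def limitHomeo (c : Cone F) (hc : IsLimit c) : c.pt ≃ₜ limSet F :=
  TopCat.homeoOfIso (hc.conePointUniqueUpToIso (TopCat.limitConeIsLimit.{u, u} F))

omit [∀ j, SpectralSpace (F.obj j)] in
theorem limitHomeo_apply (c : Cone F) (hc : IsLimit c) (x : c.pt) (j : J) :
    (limitHomeo F c hc x).1 j = c.π.app j x :=
  ConcreteCategory.congr_hom (hc.conePointUniqueUpToIso_hom_comp (TopCat.limitConeIsLimit.{u, u} F) j) x

include hFm in
/-- A cofiltered system of constructibly closed conditions which can be met at each finite stage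
has a compatible family meeting all of them. -/
theorem exists_point [IsCofiltered J] (Z : ∀ j, Set (F.obj j))
    (hZ : ∀ j, IsClosed[constructibleTopology (F.obj j)] (Z j)) (i₀ : J)
    (h : ∀ (O : Finset J), i₀ ∈ O → ∀ (k : J) (T : ∀ {j}, j ∈ O → (k ⟶ j)),
      ∃ z : F.obj k, ∀ j (hj : j ∈ O), F.map (T hj) z ∈ Z j) :
    ∃ u ∈ limSet F, ∀ j, u j ∈ Z j := by
  classical
  haveI := spectralSpace_pi (X := fun j => F.obj j)
  have hne : ∀ j, Nonempty (F.obj j) := fun j => by
    obtain ⟨k, T, -⟩ := IsCofiltered.inf_exists {i₀, j} (∅ : Finset _)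
    obtain ⟨z, -⟩ := h {i₀, j} (by simp) k T
    exact ⟨F.map (T (show j ∈ ({i₀, j} : Finset J) by simp)) z⟩
  let ι := J ⊕ Σ (i : J) (j : J), i ⟶ j
  let A : ι → Set (∀ j, F.obj j) := Sum.elim (fun j => (fun u => u j) ⁻¹' Z j)
    (fun a => {u | F.map a.2.2 (u a.1) = u a.2.1})
  obtain ⟨u, hu⟩ := exists_mem_of_fip A
    (fun o => by
      cases o with
      | inl j =>
        exact @IsClosed.preimage (∀ j, F.obj j) (F.obj j) (constructibleTopology _) (constructibleTopology _) _
          (continuous_cons (isSpectralMap_eval (X := fun j => F.obj j) j)) _ (hZ j)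
      | inr a => exact isClosed_cons_equalizer F hFm a.2.2)
    (fun t => by
      let O : Finset J := insert i₀ (t.toLeft ∪ t.toRight.image (fun a => a.1) ∪ t.toRight.image (fun a => a.2.1))
      let O' : Finset (Σ' (X Y : J) (_ : X ∈ O) (_ : Y ∈ O), X ⟶ Y) :=
        t.toRight.attach.image fun a => ⟨a.1.1, a.1.2.1,
          Finset.mem_insert_of_mem (Finset.mem_union_left _ (Finset.mem_union_right _
            (Finset.mem_image_of_mem (fun a => a.1) a.2))),
          Finset.mem_insert_of_mem (Finset.mem_union_right _ (Finset.mem_image_of_mem (fun a => a.2.1) a.2)),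
          a.1.2.2⟩
      obtain ⟨k, T, hT⟩ := IsCofiltered.inf_exists O O'
      obtain ⟨z, hz⟩ := h O (Finset.mem_insert_self _ _) k T
      let w : ∀ j, F.obj j := fun j => if hj : j ∈ O then F.map (T hj) z else Classical.choice (hne j)
      have hw : ∀ j (hj : j ∈ O), w j = F.map (T hj) z := fun j hj => dif_pos hj
      refine ⟨w, mem_iInter₂.2 fun o ho => ?_⟩
      cases o with
      | inl j =>
        have hj : j ∈ O := Finset.mem_insert_of_mem (Finset.mem_union_left _ (Finset.mem_union_left _
          (Finset.mem_toLeft.2 ho)))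
        change w j ∈ Z j
        rw [hw j hj]
        exact hz j hj
      | inr a =>
        have ha : a ∈ t.toRight := Finset.mem_toRight.2 ho
        have h1 : a.1 ∈ O := Finset.mem_insert_of_mem (Finset.mem_union_left _ (Finset.mem_union_right _
          (Finset.mem_image_of_mem (fun a => a.1) ha)))
        have h2 : a.2.1 ∈ O := Finset.mem_insert_of_mem (Finset.mem_union_right _
          (Finset.mem_image_of_mem (fun a => a.2.1) ha))
        change F.map a.2.2 (w a.1) = w a.2.1
        rw [hw _ h1, hw _ h2, ← hT h1 h2 (f := a.2.2)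
          (Finset.mem_image.2 ⟨⟨a, ha⟩, Finset.mem_attach _ _, rfl⟩), F.map_comp]
        rfl)
  exact ⟨u, fun {i j} f => hu (Sum.inr ⟨i, j, f⟩), fun j => hu (Sum.inl j)⟩

section Cone

variable (c : Cone F) (hc : IsLimit c)

include hFm hc in
theorem spectralSpace_pt : SpectralSpace c.pt := by
  haveI := spectralSpace_limSet F hFm
  haveI : CompactSpace c.pt := (limitHomeo F c hc).symm.compactSpace
  exact (limitHomeo F c hc).isOpenEmbedding.spectralSpace

include hFm hc in
theorem isSpectralMap_π (j : J) : IsSpectralMap (c.π.app j : c.pt → F.obj j) := by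
  have h : (c.π.app j : c.pt → F.obj j) = (fun x : limSet F => x.1 j) ∘ limitHomeo F c hc :=
    funext fun x => (limitHomeo_apply F c hc x j).symm
  rw [h]
  exact IsSpectralMap.comp (isSpectralMap_proj F hFm j) (limitHomeo F c hc).isProperMap.isSpectralMap

include hFm hc in
theorem isCompact_forall_mem (Z : ∀ j, Set (F.obj j))
    (hZ : ∀ j, IsClosed[constructibleTopology (F.obj j)] (Z j)) :
    IsCompact {x : c.pt | ∀ j, c.π.app j x ∈ Z j} := by
  haveI := spectralSpace_pt F hFm c hc
  refine isCompact_of_isClosed_cons ?_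
  rw [show {x : c.pt | ∀ j, c.π.app j x ∈ Z j} = ⋂ j, c.π.app j ⁻¹' Z j from by ext x; simp]
  exact @isClosed_iInter c.pt _ (constructibleTopology c.pt) _ fun j =>
    @IsClosed.preimage c.pt (F.obj j) (constructibleTopology c.pt) (constructibleTopology (F.obj j)) _
      (continuous_cons (isSpectralMap_π F hFm c hc j)) _ (hZ j)

variable [IsCofiltered J]

include hFm hc in
theorem exists_pt (Z : ∀ j, Set (F.obj j))
    (hZ : ∀ j, IsClosed[constructibleTopology (F.obj j)] (Z j)) (i₀ : J)
    (h : ∀ (O : Finset J), i₀ ∈ O → ∀ (k : J) (T : ∀ {j}, j ∈ O → (k ⟶ j)),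
      ∃ z : F.obj k, ∀ j (hj : j ∈ O), F.map (T hj) z ∈ Z j) :
    ∃ x : c.pt, ∀ j, c.π.app j x ∈ Z j := by
  obtain ⟨u, hu, huZ⟩ := exists_point F hFm Z hZ i₀ h
  refine ⟨(limitHomeo F c hc).symm ⟨u, hu⟩, fun j => ?_⟩
  rw [← limitHomeo_apply F c hc, Homeomorph.apply_symm_apply]
  exact huZ j

include hFm hc in
theorem exists_preimage_subset (i : J) {E E' : Set (F.obj i)}
    (hE : IsClosed[constructibleTopology (F.obj i)] E) (hE' : IsOpen[constructibleTopology (F.obj i)] E')
    (h : c.π.app i ⁻¹' E ⊆ c.π.app i ⁻¹' E') :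
    ∃ (j : J) (a : j ⟶ i), F.map a ⁻¹' E ⊆ F.map a ⁻¹' E' := by
  classical
  by_contra! hne
  let Z : ∀ j, Set (F.obj j) := Function.update (fun j => (univ : Set (F.obj j))) i (E ∩ E'ᶜ)
  obtain ⟨x, hx⟩ := exists_pt F hFm c hc Z (fun j => by
      by_cases hji : j = i
      · subst hji
        simp only [Z, Function.update_self]
        exact @IsClosed.inter _ _ _ (constructibleTopology _) hE
          ((@isClosed_compl_iff _ (constructibleTopology _) E').2 hE')
      · simp only [Z, Function.update_of_ne hji]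
        exact @isClosed_univ _ (constructibleTopology _)) i (fun O hi k T => by
      obtain ⟨z, hz, hz'⟩ := not_subset.1 (hne k (T hi))
      refine ⟨z, fun j hj => ?_⟩
      by_cases hji : j = i
      · subst hji
        simp only [Z, Function.update_self]
        exact ⟨hz, hz'⟩
      · simp only [Z, Function.update_of_ne hji, mem_univ])
  have := hx i
  simp only [Z, Function.update_self] at this
  exact this.2 (h this.1)

omit [∀ j, SpectralSpace (F.obj j)] [IsCofiltered J] in
theorem π_map {i j : J} (a : j ⟶ i) (x : c.pt) : F.map a (c.π.app j x) = c.π.app i x :=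
  ConcreteCategory.congr_hom (c.w a) x

include hFm hc in
theorem exists_eq_preimage_of_isCompact {U : Set c.pt} (hUo : IsOpen U) (hUc : IsCompact U) :
    ∃ (i : J) (Ui : Set (F.obj i)), IsOpen Ui ∧ IsCompact Ui ∧ c.π.app i ⁻¹' Ui = U := by
  classical
  let B : Set (Set c.pt) :=
    {S | ∃ (i : J) (Ui : Set (F.obj i)), IsOpen Ui ∧ IsCompact Ui ∧ S = c.π.app i ⁻¹' Ui}
  have hbox : ∀ (S : Set c.pt), IsOpen S → ∀ x ∈ S, ∃ T ∈ B, x ∈ T ∧ T ⊆ S := by
    intro S hS x hx
    obtain ⟨O, hO, hOS⟩ := isOpen_induced_iff.1 ((limitHomeo F c hc).isOpenMap S hS)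
    have hxO : (limitHomeo F c hc x).1 ∈ O := hOS.symm.le ⟨x, hx, rfl⟩
    obtain ⟨_, ⟨V, t, hV, rfl⟩, hxV, hVO⟩ := (isTopologicalBasis_pi fun j =>
      PrespectralSpace.isTopologicalBasis (X := F.obj j)).exists_subset_of_mem_open hxO hO
    obtain ⟨k, T, -⟩ := IsCofiltered.inf_exists t (∅ : Finset _)
    refine ⟨_, ⟨k, ⋂ j : t, F.map (T j.2) ⁻¹' V j, ?_, ?_, rfl⟩, ?_, ?_⟩
    · exact isOpen_iInter_of_finite fun j => (hV j j.2).1.preimage (hFm (T j.2)).continuous
    · have := (isOpen_isCompact_biInter (Finset.univ : Finset t) (fun j => F.map (T j.2) ⁻¹' V j) fun j _ =>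
        ⟨(hV j j.2).1.preimage (hFm (T j.2)).continuous, (hV j j.2).2.preimage_of_isOpen (hFm (T j.2)) (hV j j.2).1⟩).2
      simpa using this
    · refine mem_iInter.2 fun j => ?_
      rw [mem_preimage, π_map, ← limitHomeo_apply F c hc]
      exact hxV j j.2
    · intro y hy
      have hy' : (limitHomeo F c hc y).1 ∈ O := hVO fun j hj => by
        rw [limitHomeo_apply F c hc, ← π_map F c (T hj)]
        exact mem_iInter.1 hy ⟨j, hj⟩
      obtain ⟨y', hy'', he⟩ := hOS.le hy'
      exact (limitHomeo F c hc).injective he ▸ hy''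
  choose T hTB hxT hTU using hbox U hUo
  choose iT VT hVo hVc hTV using hTB
  obtain ⟨t, ht⟩ := hUc.elim_finite_subcover (fun x : U => c.π.app (iT x x.2) ⁻¹' VT x x.2)
    (fun x => (hVo x x.2).preimage (c.π.app (iT x x.2)).hom.continuous)
    (fun x hx => mem_iUnion.2 ⟨⟨x, hx⟩, (hTV x hx) ▸ hxT x hx⟩)
  obtain ⟨k, Tk, -⟩ := IsCofiltered.inf_exists (t.image fun x : U => iT x x.2) (∅ : Finset _)
  refine ⟨k, ⋃ x : t, F.map (Tk (Finset.mem_image_of_mem _ x.2)) ⁻¹' VT x.1 x.1.2, ?_, ?_, ?_⟩
  · exact isOpen_iUnion fun x => (hVo _ _).preimage (hFm _).continuous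
  · exact isCompact_iUnion fun x => (hVc _ _).preimage_of_isOpen (hFm _) (hVo _ _)
  · ext y
    simp only [mem_preimage, mem_iUnion, π_map]
    refine ⟨fun ⟨x, hx⟩ => hTU x.1 x.1.2 ((hTV x.1 x.1.2).symm ▸ hx), fun hy => ?_⟩
    obtain ⟨x, hx, hyx⟩ := mem_iUnion₂.1 (ht hy)
    exact ⟨⟨x, hx⟩, hyx⟩

include hFm hc in
theorem exists_eq_preimage_of_isConstructible {E : Set c.pt} (hE : Topology.IsConstructible E) :
    ∃ (i : J) (Ei : Set (F.obj i)), Topology.IsConstructible Ei ∧ c.π.app i ⁻¹' Ei = E := by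
  haveI := spectralSpace_pt F hFm c hc
  induction hE using IsConstructible.empty_union_induction with
  | open_retrocompact U hUo hUr =>
    obtain ⟨i, Ui, ho, hcU, h⟩ := exists_eq_preimage_of_isCompact F hFm c hc hUo hUr.isCompact
    exact ⟨i, Ui, hcU.isConstructible ho, h⟩
  | union s _ t _ hs ht =>
    obtain ⟨i, A, hA, rfl⟩ := hs
    obtain ⟨j, B, hB, rfl⟩ := ht
    obtain ⟨k, a, b, -⟩ := IsCofilteredOrEmpty.cone_objs i j
    refine ⟨k, F.map a ⁻¹' A ∪ F.map b ⁻¹' B, ?_, ?_⟩
    · refine IsConstructible.union ?_ ?_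
      · exact hA.preimage (hFm a).continuous fun V hV hVr =>
          (hVr.isCompact.preimage_of_isOpen (hFm a) hV).isRetrocompact (hV.preimage (hFm a).continuous)
      · exact hB.preimage (hFm b).continuous fun V hV hVr =>
          (hVr.isCompact.preimage_of_isOpen (hFm b) hV).isRetrocompact (hV.preimage (hFm b).continuous)
    · ext y
      simp only [preimage_union, mem_union, mem_preimage, π_map]
  | compl s _ hs =>
    obtain ⟨i, A, hA, rfl⟩ := hs
    exact ⟨i, Aᶜ, hA.compl, rfl⟩

end Cone

end Limit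

end GrothLib.SpecSp
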