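import Groth.Agent.Lib.NoethTop.Spectral
import Mathlib.Topology.NoetherianSpace
import Mathlib.Topology.Constructions

/-!
# Products of spectral spaces, finite spectral spaces
-/

universe u v

open Topology TopologicalSpace Set

namespace GrothLib.SpecSp

/-- An irreducible set meeting finitely many open sets meets their intersection. -/
theorem exists_mem_biInter {X : Type u} [TopologicalSpace X] {Z : Set X} (hZ : IsIrreducible Z)
    {ι : Type v} (t : Finset ι) (U : ι → Set X) (hU : ∀ i ∈ t, IsOpen (U i))
    (h : ∀ i ∈ t, (Z ∩ U i).Nonempty) : (Z ∩ ⋂ i ∈ t, U i).Nonempty := by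
  classical
  induction t using Finset.induction_on with
  | empty => simpa using hZ.nonempty
  | insert a s _ ih =>
    rw [Finset.set_biInter_insert]
    exact hZ.2 _ _ (hU a (Finset.mem_insert_self a s))
      (isOpen_biInter_finset fun i hi => hU i (Finset.mem_insert_of_mem hi))
      (h a (Finset.mem_insert_self a s))
      (ih (fun i hi => hU i (Finset.mem_insert_of_mem hi)) fun i hi => h i (Finset.mem_insert_of_mem hi))

theorem quasiSeparatedSpace_of_basis {X : Type u} [TopologicalSpace X] {B : Set (Set X)}
    (hB : IsTopologicalBasis B) (hc : ∀ s ∈ B, IsCompact s) (hi : ∀ s ∈ B, ∀ t ∈ B, IsCompact (s ∩ t)) :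
    QuasiSeparatedSpace X := by
  have key : ∀ U : Set X, IsOpen U → IsCompact U → ∃ S : Set (Set X), S ⊆ B ∧ S.Finite ∧ U = ⋃₀ S := by
    intro U hUo hUc
    obtain ⟨S, hS, hUS⟩ := hB.open_eq_sUnion hUo
    subst hUS
    obtain ⟨t, htS, htf, ht⟩ := hUc.elim_finite_subcover_image (b := S) (c := id)
      (fun s hs => hB.isOpen (hS hs)) (by rw [sUnion_eq_biUnion]; exact subset_rfl)
    refine ⟨t, htS.trans hS, htf, subset_antisymm ?_ (sUnion_mono htS)⟩
    rw [sUnion_eq_biUnion (s := t)]
    exact ht
  refine ⟨fun U V hUo hUc hVo hVc => ?_⟩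
  obtain ⟨S, hS, hSf, rfl⟩ := key U hUo hUc
  obtain ⟨T, hT, hTf, rfl⟩ := key V hVo hVc
  rw [sUnion_eq_biUnion, sUnion_eq_biUnion, iUnion₂_inter]
  refine hSf.isCompact_biUnion fun s hs => ?_
  rw [inter_iUnion₂]
  exact hTf.isCompact_biUnion fun t ht => hi s (hS hs) t (hT ht)

theorem spectralSpace_of_finite (X : Type u) [TopologicalSpace X] [Finite X] [T0Space X] : SpectralSpace X := by
  haveI : NoetherianSpace X :=
    (TopologicalSpace.noetherianSpace_iff_opens X).2 fun s => (Set.toFinite (s : Set X)).isCompact
  haveI : QuasiSober X := ⟨fun {Z} hZ hZc => by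
    classical
    obtain ⟨z, hz, hsub⟩ := isIrreducible_iff_sUnion_isClosed.1 hZ
      ((Set.toFinite Z).toFinset.image fun z => closure {z}) (by simp) (by
        intro z hz
        rw [Finset.coe_image, Set.Finite.coe_toFinset]
        exact ⟨_, ⟨z, hz, rfl⟩, subset_closure rfl⟩)
    obtain ⟨w, hw, rfl⟩ := Finset.mem_image.1 hz
    exact ⟨w, subset_antisymm (closure_minimal (singleton_subset_iff.2 ((Set.toFinite Z).mem_toFinset.1 hw)) hZc) hsub⟩⟩
  haveI : QuasiSeparatedSpace X := ⟨fun U V _ _ _ _ => NoetherianSpace.isCompact _⟩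
  exact {}

variable {ι : Type v} {X : ι → Type u} [∀ i, TopologicalSpace (X i)] [∀ i, SpectralSpace (X i)]

theorem spectralSpace_pi : SpectralSpace (∀ i, X i) := by
  classical
  have hb : IsTopologicalBasis {S : Set (∀ i, X i) | ∃ (U : ∀ i, Set (X i)) (F : Finset ι),
      (∀ i, i ∈ F → U i ∈ {U : Set (X i) | IsOpen U ∧ IsCompact U}) ∧ S = (F : Set ι).pi U} :=
    isTopologicalBasis_pi fun i => PrespectralSpace.isTopologicalBasis
  have hcomp : ∀ (F : Finset ι) (U : ∀ i, Set (X i)), (∀ i ∈ F, IsCompact (U i)) →
      IsCompact ((F : Set ι).pi U) := fun F U hU => by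
    rw [show (F : Set ι).pi U = univ.pi fun i => if i ∈ F then U i else univ from (univ_pi_ite (F : Set ι) U).symm]
    refine isCompact_univ_pi fun i => ?_
    split_ifs with h
    · exact hU i h
    · exact isCompact_univ
  haveI : PrespectralSpace (∀ i, X i) := by
    refine PrespectralSpace.of_isTopologicalBasis hb ?_
    rintro _ ⟨U, F, hU, rfl⟩
    exact hcomp F U fun i hi => (hU i hi).2
  haveI : QuasiSeparatedSpace (∀ i, X i) := by
    refine quasiSeparatedSpace_of_basis hb ?_ ?_
    · rintro _ ⟨U, F, hU, rfl⟩
      exact hcomp F U fun i hi => (hU i hi).2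
    · rintro _ ⟨U, F, hU, rfl⟩ _ ⟨V, G, hV, rfl⟩
      have e : (F : Set ι).pi U ∩ (G : Set ι).pi V = ((F ∪ G : Finset ι) : Set ι).pi fun i =>
          (if i ∈ F then U i else univ) ∩ (if i ∈ G then V i else univ) := by
        ext x
        simp only [mem_inter_iff, Set.mem_pi, Finset.coe_union, mem_union, Finset.mem_coe]
        constructor
        · rintro ⟨h1, h2⟩ i -
          exact ⟨by split_ifs with h; exacts [h1 i h, trivial], by split_ifs with h; exacts [h2 i h, trivial]⟩
        · intro h
          exact ⟨fun i hi => by have := (h i (Or.inl hi)).1; rwa [if_pos hi] at this,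
            fun i hi => by have := (h i (Or.inr hi)).2; rwa [if_pos hi] at this⟩
      rw [e]
      refine hcomp _ _ fun i hi => ?_
      split_ifs with h1 h2 h2
      · exact (hU i h1).2.inter_of_isOpen (hV i h2).2 (hU i h1).1 (hV i h2).1
      · rw [inter_univ]; exact (hU i h1).2
      · rw [univ_inter]; exact (hV i h2).2
      · exact absurd (Finset.mem_union.1 hi) (by tauto)
  haveI : QuasiSober (∀ i, X i) := ⟨fun {Z} hZ hZc => by
    choose η hη using fun i => QuasiSober.sober
      ((hZ.image (fun x => x i) (continuous_apply i).continuousOn).closure) isClosed_closure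
    refine ⟨η, subset_antisymm (closure_minimal (singleton_subset_iff.2 ?_) hZc) fun z hz => ?_⟩
    · refine hZc.closure_subset ?_
      rw [hb.mem_closure_iff]
      rintro _ ⟨U, F, hU, rfl⟩ hηU
      obtain ⟨x, hxZ, hxF⟩ := exists_mem_biInter hZ F (fun i => (fun x => x i) ⁻¹' U i)
        (fun i hi => (hU i hi).1.preimage (continuous_apply i)) (fun i hi => by
          obtain ⟨_, hyU, x, hx, rfl⟩ := mem_closure_iff.1 (hη i).mem (U i) (hU i hi).1 (hηU i hi)
          exact ⟨x, hx, hyU⟩)
      exact ⟨x, fun i hi => mem_iInter₂.1 hxF i hi, hxZ⟩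
    · exact (specializes_pi.2 fun i => (hη i).specializes (subset_closure ⟨z, hz, rfl⟩)).mem_closure⟩
  exact {}

theorem isSpectralMap_eval (i : ι) : IsSpectralMap (fun x : ∀ i, X i => x i) := by
  classical
  refine ⟨continuous_apply i, fun U _ hU => ?_⟩
  have e : (fun x : ∀ i, X i => x i) ⁻¹' U = univ.pi (Function.update (fun j => (univ : Set (X j))) i U) :=
    eval_preimage
  rw [e]
  refine isCompact_univ_pi fun j => ?_
  by_cases h : j = i
  · subst h
    rw [Function.update_self]
    exact hU
  · rw [Function.update_of_ne h]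
    exact isCompact_univ

/-- A pair of spaces as a family. -/
def PairFam (A B : Type u) : Bool → Type u
  | true => A
  | false => B

variable {A B : Type u} [TopologicalSpace A] [TopologicalSpace B]

instance instTopologicalSpacePairFam : ∀ b, TopologicalSpace (PairFam A B b)
  | true => (inferInstance : TopologicalSpace A)
  | false => (inferInstance : TopologicalSpace B)

theorem spectralSpace_prod [hA : SpectralSpace A] [hB : SpectralSpace B] : SpectralSpace (A × B) := by
  haveI : ∀ b, SpectralSpace (PairFam A B b) := fun b => by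
    cases b
    · exact hB
    · exact hA
  haveI := spectralSpace_pi (X := PairFam A B)
  let e : (A × B) ≃ₜ (∀ b, PairFam A B b) :=
    { toFun := fun p b => match b with
        | true => p.1
        | false => p.2
      invFun := fun f => (f true, f false)
      left_inv := fun p => rfl
      right_inv := fun f => funext fun b => by cases b <;> rfl
      continuous_toFun := continuous_pi fun b => by cases b; exacts [continuous_snd, continuous_fst]
      continuous_invFun := (continuous_apply (A := PairFam A B) true).prodMk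
        (continuous_apply (A := PairFam A B) false) }
  exact e.isOpenEmbedding.spectralSpace

end GrothLib.SpecSp
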